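import Cfsg.Agent.H972.Seitz.Sp
import Cfsg.Agent.H818.Gen.Rows
import Cfsg.Agent.H522.Gen.Hyp
import Cfsg.Agent.H458.SpAut
import Cfsg.Agent.H240.GenTwF.Tools
import Cfsg.Agent.CpAut.OrthRow

/-!
# S2187, row `PSp_2m(q)`: groups of inner automorphisms (helper972)

* `inner_top` : `E ≤ Aut (PSp_2m(q))` elementary abelian of order at least `p²`, all elements inner ⟹ `Gam p E = ⊤`.
-/

set_option autoImplicit false
set_option linter.unusedSectionVars false

namespace Cfsg.Agent.H972.Gen.Sp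

open Cfsg Matrix Subgroup Cfsg.Agent.ClassicalGeometry.SympBasic Cfsg.Agent.ClassicalGeometry.SympAutSemi
open Cfsg.Agent.H972.Seitz.Rep Cfsg.Agent.H972.Seitz.Sp Cfsg.Agent.H818.Gen
open Cfsg.Agent.H458.SpOp (pr ker_pr surj_pr coprime_ker)

/-! ### the unipotent group of a totally isotropic subspace -/

section uni

variable {m : ℕ} {F : Type*} [Field F]

/-- the elements acting trivially on `W` and `V / W` -/
def uni (W : Submodule F (Fin m ⊕ Fin m → F)) : Subgroup (Matrix.symplecticGroup (Fin m) F) where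
  carrier := {g | (∀ v, (g : Matrix (Fin m ⊕ Fin m) (Fin m ⊕ Fin m) F) *ᵥ v - v ∈ W) ∧ ∀ w ∈ W, (g : Matrix (Fin m ⊕ Fin m) (Fin m ⊕ Fin m) F) *ᵥ w = w}
  one_mem' := ⟨fun v => by
    rw [show ((1 : Matrix.symplecticGroup (Fin m) F) : Matrix (Fin m ⊕ Fin m) (Fin m ⊕ Fin m) F) = 1 from rfl,
      one_mulVec, sub_self]
    exact W.zero_mem, fun w _ => by
    rw [show ((1 : Matrix.symplecticGroup (Fin m) F) : Matrix (Fin m ⊕ Fin m) (Fin m ⊕ Fin m) F) = 1 from rfl,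
      one_mulVec]⟩
  mul_mem' := by
    rintro a b ⟨ha, ha'⟩ ⟨hb, hb'⟩
    refine ⟨fun v => ?_, fun w hw => ?_⟩
    · rw [coe_mul_mulVec]
      have h1 : (a : Matrix (Fin m ⊕ Fin m) (Fin m ⊕ Fin m) F) *ᵥ ((b : Matrix (Fin m ⊕ Fin m) (Fin m ⊕ Fin m) F) *ᵥ v) - v =
          ((a : Matrix (Fin m ⊕ Fin m) (Fin m ⊕ Fin m) F) *ᵥ ((b : Matrix (Fin m ⊕ Fin m) (Fin m ⊕ Fin m) F) *ᵥ v) - (b : Matrix (Fin m ⊕ Fin m) (Fin m ⊕ Fin m) F) *ᵥ v) + ((b : Matrix (Fin m ⊕ Fin m) (Fin m ⊕ Fin m) F) *ᵥ v - v) := by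
        abel
      rw [h1]
      exact W.add_mem (ha _) (hb _)
    · rw [coe_mul_mulVec, hb' w hw, ha' w hw]
  inv_mem' := by
    rintro a ⟨ha, ha'⟩
    have hinv : ∀ v, (a : Matrix (Fin m ⊕ Fin m) (Fin m ⊕ Fin m) F) *ᵥ (((a⁻¹ : Matrix.symplecticGroup (Fin m) F) : Matrix (Fin m ⊕ Fin m) (Fin m ⊕ Fin m) F) *ᵥ v) = v := by
      intro v
      rw [← coe_mul_mulVec, mul_inv_cancel]
      exact one_mulVec v
    have hinv' : ∀ v, ((a⁻¹ : Matrix.symplecticGroup (Fin m) F) : Matrix (Fin m ⊕ Fin m) (Fin m ⊕ Fin m) F) *ᵥ ((a : Matrix (Fin m ⊕ Fin m) (Fin m ⊕ Fin m) F) *ᵥ v) = v := by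
      intro v
      rw [← coe_mul_mulVec, inv_mul_cancel]
      exact one_mulVec v
    have hW : ∀ w ∈ W, ((a⁻¹ : Matrix.symplecticGroup (Fin m) F) : Matrix (Fin m ⊕ Fin m) (Fin m ⊕ Fin m) F) *ᵥ w = w := by
      intro w hw
      conv_lhs => rw [← ha' w hw]
      exact hinv' w
    refine ⟨fun v => ?_, hW⟩
    have h1 := ha (((a⁻¹ : Matrix.symplecticGroup (Fin m) F) : Matrix (Fin m ⊕ Fin m) (Fin m ⊕ Fin m) F) *ᵥ v)
    rw [hinv] at h1
    have h2 := W.neg_mem h1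
    rwa [neg_sub] at h2

theorem uni_pow {W : Submodule F (Fin m ⊕ Fin m → F)} {g : Matrix.symplecticGroup (Fin m) F} (hg : g ∈ uni W) (n : ℕ)
    (v : Fin m ⊕ Fin m → F) : ((g ^ n : Matrix.symplecticGroup (Fin m) F) : Matrix (Fin m ⊕ Fin m) (Fin m ⊕ Fin m) F) *ᵥ v =
      v + (n : F) • ((g : Matrix (Fin m ⊕ Fin m) (Fin m ⊕ Fin m) F) *ᵥ v - v) := by
  induction n with
  | zero =>
    rw [pow_zero, Nat.cast_zero, zero_smul, add_zero]
    exact one_mulVec v
  | succ n ih =>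
    rw [pow_succ', coe_mul_mulVec, ih, mulVec_add, mulVec_smul, hg.2 _ (hg.1 v)]
    push_cast
    module

theorem uni_pow_char {W : Submodule F (Fin m ⊕ Fin m → F)} {g : Matrix.symplecticGroup (Fin m) F} (hg : g ∈ uni W) (r : ℕ)
    [CharP F r] : g ^ r = 1 := by
  apply Subtype.ext
  rw [← Matrix.mulVec_injective.eq_iff]
  funext v
  rw [uni_pow hg, CharP.cast_eq_zero, zero_smul, add_zero]
  exact (one_mulVec v).symm

theorem transv_mem_uni {W : Submodule F (Fin m ⊕ Fin m → F)} (hW : ∀ x ∈ W, ∀ y ∈ W, sympForm m F x y = 0)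
    {w : Fin m ⊕ Fin m → F} (hw : w ∈ W) (c : F) : transv w c ∈ uni W := by
  refine ⟨fun v => ?_, fun x hx => ?_⟩
  · rw [coe_transv, sympTransvection_mulVec, add_sub_cancel_left]
    exact W.smul_mem _ hw
  · rw [coe_transv, sympTransvection_mulVec, hW x hx w hw, mul_zero, zero_smul, add_zero]

theorem conj_mem_uni {W : Submodule F (Fin m ⊕ Fin m → F)} {a : Matrix.symplecticGroup (Fin m) F}
    (ha : ∀ w ∈ W, (a : Matrix (Fin m ⊕ Fin m) (Fin m ⊕ Fin m) F) *ᵥ w ∈ W)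
    (ha' : ∀ w ∈ W, ((a⁻¹ : Matrix.symplecticGroup (Fin m) F) : Matrix (Fin m ⊕ Fin m) (Fin m ⊕ Fin m) F) *ᵥ w ∈ W)
    {g : Matrix.symplecticGroup (Fin m) F} (hg : g ∈ uni W) : a * g * a⁻¹ ∈ uni W := by
  have hinv : ∀ v, (a : Matrix (Fin m ⊕ Fin m) (Fin m ⊕ Fin m) F) *ᵥ (((a⁻¹ : Matrix.symplecticGroup (Fin m) F) : Matrix (Fin m ⊕ Fin m) (Fin m ⊕ Fin m) F) *ᵥ v) = v := by
    intro v
    rw [← coe_mul_mulVec, mul_inv_cancel]
    exact one_mulVec v
  refine ⟨fun v => ?_, fun w hw => ?_⟩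
  · rw [coe_mul_mulVec, coe_mul_mulVec]
    have h1 := ha _ (hg.1 (((a⁻¹ : Matrix.symplecticGroup (Fin m) F) : Matrix (Fin m ⊕ Fin m) (Fin m ⊕ Fin m) F) *ᵥ v))
    rwa [mulVec_sub, hinv] at h1
  · rw [coe_mul_mulVec, coe_mul_mulVec, hg.2 _ (ha' w hw), hinv]

end uni

variable {m : ℕ} {F : Type} [Field F] [Fintype F]

theorem transv_notMem_ker {w : Fin m ⊕ Fin m → F} (hw : w ≠ 0) : pr m F (transv w 1) ≠ 1 := by
  intro h
  have h1 : transv w (1 : F) ∈ center (Matrix.symplecticGroup (Fin m) F) := by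
    rw [← ker_pr]; exact MonoidHom.mem_ker.2 h
  obtain ⟨c, hc⟩ := (LieClassical.SympCenter.mem_center_iff m (transv w (1 : F))).1 h1
  have h2 : ∀ v, (transv w (1 : F) : Matrix (Fin m ⊕ Fin m) (Fin m ⊕ Fin m) F) *ᵥ v = c • v := by
    intro v
    rw [hc, smul_mulVec, one_mulVec]
  have h3 := h2 w
  rw [coe_transv, sympTransvection_mulVec, sympForm_self, mul_zero, zero_smul, add_zero] at h3
  have hc1 : c = 1 := by
    by_contra hne
    have h4 : (1 - c) • w = 0 := by rw [sub_smul, one_smul, ← h3, sub_self]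
    rcases smul_eq_zero.1 h4 with h5 | h5
    · exact hne (sub_eq_zero.1 h5).symm
    · exact hw h5
  have h5 : ∀ v, sympForm m F v w = 0 := by
    intro v
    have h6 := h2 v
    rw [coe_transv, sympTransvection_mulVec, hc1, one_smul, one_mul] at h6
    have h7 : sympForm m F v w • w = 0 := by
      have := congrArg (fun z => z - v) h6
      simpa using this
    exact (smul_eq_zero.1 h7).resolve_right hw
  exact hw (eq_zero_of_forall_sympForm_left h5)

/-- **The isotropic case.** -/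
theorem isotropic {r p : ℕ} [CharP F r] (hC : Cond r p) (hm : 2 ≤ m) (h22 : m = 2 → 3 ≤ Fintype.card F)
    {E : Subgroup (MulAut (PSp m F))} (hE : IsElementaryAbelian p E) (hc : p ^ 2 ≤ Nat.card E)
    {W : Submodule F (Fin m ⊕ Fin m → F)} (hW0 : W ≠ ⊥) (hW : ∀ x ∈ W, ∀ y ∈ W, sympForm m F x y = 0)
    (hinv : ∀ e ∈ E, ∃ a : Matrix.symplecticGroup (Fin m) F, e = MulAut.conj (pr m F a) ∧
      (∀ w ∈ W, (a : Matrix (Fin m ⊕ Fin m) (Fin m ⊕ Fin m) F) *ᵥ w ∈ W) ∧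
      ∀ w ∈ W, ((a⁻¹ : Matrix.symplecticGroup (Fin m) F) : Matrix (Fin m ⊕ Fin m) (Fin m ⊕ Fin m) F) *ᵥ w ∈ W) : Gam p E = ⊤ := by
  have hr : Fact r.Prime := ⟨hC.r_prime⟩
  have hp : Fact p.Prime := ⟨hC.p_prime⟩
  have hsimple : IsSimpleGroup (PSp m F) := S0270.result m hm h22
  have hfilt : KFacts.RgdFilt.HasFilt r (PSp m F) :=
    KFacts.RgdLieCharP.hasFilt_of_lie (Or.inr (Or.inl ⟨F, inferInstance, inferInstance, inferInstance, m, hm,
      h22, ⟨MulEquiv.refl _⟩⟩))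
  have hnc : ∃ a b : PSp m F, a * b ≠ b * a := by
    by_contra hcon
    push Not at hcon
    exact CpAut.Fix.not_comm_quot (H := Matrix.symplecticGroup (Fin m) F) (isMulCommutative_iff.2 hcon)
  obtain ⟨w, hw, hw0⟩ := (Submodule.ne_bot_iff W).1 hW0
  refine H522.Gen.top_of_filt hfilt hnc hC.p_ne_r hE hc (K := (uni W).map (pr m F)) ?_ ?_ ?_
  · have h1 : IsPGroup r (uni W) := fun g => ⟨1, Subtype.ext (by rw [pow_one]; exact uni_pow_char g.2 r)⟩
    exact h1.map _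
  · intro h
    have h1 : pr m F (transv w 1) ∈ (uni W).map (pr m F) := ⟨_, transv_mem_uni hW hw 1, rfl⟩
    rw [h, mem_bot] at h1
    exact transv_notMem_ker hw0 h1
  · intro e he
    obtain ⟨a, rfl, ha, ha'⟩ := hinv e he
    have key : ∀ a : Matrix.symplecticGroup (Fin m) F, (∀ w ∈ W, (a : Matrix (Fin m ⊕ Fin m) (Fin m ⊕ Fin m) F) *ᵥ w ∈ W) →
        (∀ w ∈ W, ((a⁻¹ : Matrix.symplecticGroup (Fin m) F) : Matrix (Fin m ⊕ Fin m) (Fin m ⊕ Fin m) F) *ᵥ w ∈ W) →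
        ∀ x ∈ (uni W).map (pr m F), pr m F a * x * (pr m F a)⁻¹ ∈ (uni W).map (pr m F) := by
      rintro a ha ha' _ ⟨g, hg, rfl⟩
      exact ⟨a * g * a⁻¹, conj_mem_uni ha ha' hg, by rw [map_mul, map_mul, map_inv]⟩
    apply le_antisymm
    · rintro _ ⟨x, hx, rfl⟩
      exact key a ha ha' x hx
    · intro x hx
      refine ⟨(pr m F a)⁻¹ * x * pr m F a, ?_, ?_⟩
      · have := key a⁻¹ ha' (by rw [inv_inv]; exact ha) x hx
        rwa [map_inv, inv_inv] at this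
      · show pr m F a * ((pr m F a)⁻¹ * x * pr m F a) * (pr m F a)⁻¹ = x
        group

/-- the elements of order `p` of `Sp_2m(q)` inducing elements of `E` -/
def lift (p : ℕ) (E : Subgroup (MulAut (PSp m F))) (hm : 1 ≤ m) (hp : p.Prime) (hp2 : p ≠ 2)
    (hinj : Function.Injective (MulAut.conj : PSp m F →* MulAut (PSp m F)))
    (hE : ∀ a ∈ E, ∀ b ∈ E, a * b = b * a) : Subgroup (Matrix.symplecticGroup (Fin m) F) :=
  have hcomm : ∀ x y : Matrix.symplecticGroup (Fin m) F, x ^ p = 1 → MulAut.conj (pr m F x) ∈ E →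
      MulAut.conj (pr m F y) ∈ E → y * x = x * y := by
    intro x y hx hxE hyE
    refine H458.Quot.comm_of_conj (pr m F) ker_pr.le (coprime_ker hm hp hp2) hx ?_
    have h1 := hE _ hyE _ hxE
    rw [← map_mul (MulAut.conj : PSp m F →* MulAut (PSp m F)), ← map_mul (MulAut.conj : PSp m F →* MulAut (PSp m F))] at h1
    have h2 := hinj h1
    rw [MulAut.conj_apply, h2, mul_inv_cancel_right]
  { carrier := {x | x ^ p = 1 ∧ MulAut.conj (pr m F x) ∈ E}
    one_mem' := ⟨one_pow p, by rw [map_one, map_one]; exact E.one_mem⟩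
    mul_mem' := by
      rintro x y ⟨hx, hxE⟩ ⟨hy, hyE⟩
      refine ⟨?_, by rw [map_mul, map_mul]; exact E.mul_mem hxE hyE⟩
      have h1 : Commute x y := (hcomm x y hx hxE hyE).symm
      rw [h1.mul_pow, hx, hy, one_mul]
    inv_mem' := by
      rintro x ⟨hx, hxE⟩
      exact ⟨by rw [inv_pow, hx, inv_one], by rw [map_inv, map_inv]; exact E.inv_mem hxE⟩ }

/-- **Groups of inner automorphisms.** -/
theorem inner_top {r p : ℕ} [CharP F r] (hC : Cond r p) (hm : 2 ≤ m) (h22 : m = 2 → 3 ≤ Fintype.card F)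
    {E : Subgroup (MulAut (PSp m F))} (hE : IsElementaryAbelian p E) (hc : p ^ 2 ≤ Nat.card E)
    (hin : ∀ e ∈ E, ∃ s : PSp m F, e = MulAut.conj s) : Gam p E = ⊤ := by
  have hr : Fact r.Prime := ⟨hC.r_prime⟩
  have hp : Fact p.Prime := ⟨hC.p_prime⟩
  have hp2 := hC.p_ne_two
  have hsimple : IsSimpleGroup (PSp m F) := S0270.result m hm h22
  have hna : ¬ IsMulCommutative (PSp m F) := CpAut.Fix.not_comm_quot (H := Matrix.symplecticGroup (Fin m) F)
  have hinj := H240.GenTwF.conj_injective (H240.GenTwF.center_bot (K := PSp m F) hna)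
  have hcomm : ∀ a ∈ E, ∀ b ∈ E, a * b = b * a := fun a ha b hb =>
    congrArg (fun z : ↥E => (z : MulAut (PSp m F))) (hE.1.1.1 ⟨a, ha⟩ ⟨b, hb⟩)
  by_contra hne
  set A : Subgroup (Matrix.symplecticGroup (Fin m) F) := lift p E (by omega) hC.p_prime hp2 hinj hcomm with hA
  have hmem : ∀ x, x ∈ A ↔ x ^ p = 1 ∧ MulAut.conj (pr m F x) ∈ E := fun x => Iff.rfl
  let f : Matrix.symplecticGroup (Fin m) F →* MulAut (PSp m F) := MulAut.conj.comp (pr m F)
  have hcop := coprime_ker (F := F) (m := m) (by omega) hC.p_prime hp2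
  have hfinj : ∀ e ∈ A, f e = 1 → e = 1 := by
    intro e he h
    have h1 : pr m F e = 1 := hinj (by rw [map_one]; exact h)
    exact H458.Quot.eq_of_map_eq (pr m F) ker_pr.le hcop ((hmem e).1 he).1 (one_pow p) (by rw [h1, map_one])
  have hmap : A.map f = E := by
    apply le_antisymm
    · rintro _ ⟨a, ha, rfl⟩
      exact ((hmem a).1 ha).2
    · intro e he
      obtain ⟨s, rfl⟩ := hin e he
      have hs : s ^ p = 1 := hinj (by rw [map_pow, hE.2 _ he, map_one])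
      obtain ⟨g, h1, h2⟩ := H458.Quot.exists_lift (pr m F) surj_pr hcop s hs
      exact ⟨g, (hmem g).2 ⟨h2, by rw [h1]; exact he⟩, by rw [MonoidHom.comp_apply, h1]⟩
  have hAc : ∀ a b : ↥A, a * b = b * a := by
    intro a b
    apply Subtype.ext
    refine (H458.Quot.comm_of_conj (pr m F) ker_pr.le hcop ((hmem b).1 b.2).1 ?_)
    have h1 := hcomm _ ((hmem a).1 a.2).2 _ ((hmem b).1 b.2).2
    rw [← map_mul (MulAut.conj : PSp m F →* MulAut (PSp m F)), ← map_mul (MulAut.conj : PSp m F →* MulAut (PSp m F))] at h1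
    have h2 := hinj h1
    rw [MulAut.conj_apply, h2, mul_inv_cancel_right]
  let _ : CommGroup ↥A := { (inferInstance : Group ↥A) with mul_comm := hAc }
  have hpF : (p : F) ≠ 0 := by
    intro h
    rw [CharP.cast_eq_zero_iff F r] at h
    exact hC.p_ne_r ((Nat.prime_dvd_prime_iff_eq hC.r_prime hC.p_prime).1 h).symm
  have hp3 : p = 3 → (2 : F) ≠ 0 := by
    intro h h2
    rcases hC.big with h7 | h7
    · omega
    · have h3 : ((2 : ℕ) : F) = 0 := by exact_mod_cast h2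
      rw [CharP.cast_eq_zero_iff F r] at h3
      exact h7 ((Nat.prime_dvd_prime_iff_eq hC.r_prime Nat.prime_two).1 h3)
  have htop := sp_top (m := m) (F := F) hp2 hpF hp3 A.subtype (fun a => Subtype.ext ((hmem a).1 a.2).1) ?_
    ((Gam p E).comap (pr m F)) ?_
  · apply hne
    rw [eq_top_iff]
    intro x _
    obtain ⟨g, rfl⟩ := surj_pr x
    have h1 : g ∈ (Gam p E).comap (pr m F) := by rw [htop]; exact mem_top _
    exact h1
  · intro W hW hiso
    by_contra hW0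
    apply hne
    refine isotropic hC hm h22 hE hc hW0 hiso fun e he => ?_
    rw [← hmap] at he
    obtain ⟨a, ha, rfl⟩ := he
    exact ⟨a, rfl, hW ⟨a, ha⟩, hW ⟨a⁻¹, A.inv_mem ha⟩⟩
  · intro B hB g hg
    rw [mem_comap, ← hmap, Gam_map f hfinj]
    refine subset_closure ⟨B.map A.subtype, map_subtype_le B, ?_, ?_⟩
    · have h2 : (B.map A.subtype).subgroupOf A = B := by
        rw [← Subgroup.comap_subtype]
        exact Subgroup.comap_map_eq_self_of_injective A.subtype_injective B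
      rw [relIndex, h2, hB]
    · intro x hx
      have h1 := mem_centralizer_iff.1 hg x hx
      show pr m F x * pr m F g * (pr m F x)⁻¹ = pr m F g
      rw [← map_mul, h1, map_mul, mul_inv_cancel_right]

end Cfsg.Agent.H972.Gen.Sp
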