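import Cfsg.Agent.H972.Gen.FieldLin
import Cfsg.Agent.H972.Gen.SpInner
import Cfsg.Agent.H875.SpGenEven
import Cfsg.Agent.H97.Sp4Sub
import Cfsg.Agent.H910.SubEvenAll
import Cfsg.Agent.CpAutU.Fixed

/-!
# S2187, row `PSp_2m(q)`: field automorphisms (helper972)

* `sub_max` : the subfield subgroups of prime index are maximal, all `m ≥ 2`;
* `over` : overgroups of `Sp_2m(q₀)`;
* `dat` : the data of `FieldAbs` for the standard field automorphisms;
* `psp` : **the row**.
-/

set_option autoImplicit false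
set_option linter.unusedSectionVars false

namespace Cfsg.Agent.H972.Gen.Sp

open Cfsg Matrix Subgroup Cfsg.Agent.ClassicalGeometry.SympBasic Cfsg.Agent.ClassicalGeometry.SympAutSemi
open Cfsg.Agent.ClassicalGeometry.SympGamma
open Cfsg.Agent.H972.Seitz.Sp Cfsg.Agent.H818.Gen Cfsg.Agent.CpAut.SpLang Cfsg.Agent.CpAut
open Cfsg.Agent.H458.SpOp (pr ker_pr surj_pr coprime_ker)

section max

variable {F : Type*} [Field F] {m : ℕ}

theorem form_mem {F₀ : Subfield F} {u v : Fin m ⊕ Fin m → F} (hu : ∀ i, u i ∈ F₀) (hv : ∀ i, v i ∈ F₀) :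
    sympForm m F u v ∈ F₀ := by
  rw [sympForm_eq_sum]
  exact F₀.sum_mem fun i _ => F₀.sub_mem (F₀.mul_mem (hu _) (hv _)) (F₀.mul_mem (hu _) (hv _))

theorem rational (F₀ : Subfield F) : Geo.IsFormRationalStructure (sympForm m F) F₀ 1 1 := by
  intro u v hu hv
  rw [one_mul, Units.val_one, one_mulVec, one_mulVec]
  exact form_mem hu hv

/-- **subfield subgroups of prime index are maximal** -/
theorem sub_max [Fintype F] (hm : 2 ≤ m) (F₀ : Subfield F) {r : ℕ} (hr : r.Prime)
    (hcard : Fintype.card F = Nat.card F₀ ^ r) :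
    Geo.IsMaximalIn (spGL m F) (Geo.subfieldSubgroup F₀ 1 ⊓ spGL m F) := by
  by_cases h3 : 3 ≤ m
  · exact H875.SpGenEven.sub_maximal_all m h3 F₀ r hr hcard 1 1 one_ne_zero (rational F₀)
  · obtain rfl : m = 2 := by omega
    by_cases h2 : (2 : F) = 0
    · have : CharP F 2 := CharTwo.of_one_ne_zero_of_two_eq_zero one_ne_zero h2
      exact H910.sub_maximal hr (by rw [Nat.card_eq_fintype_card]; exact hcard) one_ne_zero (rational F₀)
    · refine H97.Sp4Sub.maximal_of_odd le_rfl h2 ?_ hr hcard one_ne_zero (rational F₀)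
      have h1 : 1 < Fintype.card F := Fintype.one_lt_card
      by_contra hcon
      have h4 : Fintype.card F = 2 := by omega
      apply h2
      have h5 := Nat.cast_card_eq_zero (R := F)
      rw [h4] at h5
      exact_mod_cast h5

end max

section ovg

variable {F : Type*} [Field F] {m : ℕ}

/-- matrices rational up to a scalar are rational (odd degree) -/
theorem entries {φ : F ≃+* F} {p : ℕ} (hp : Odd p) (hφ : φ ^ p = 1) (hm : 1 ≤ m) (A : Matrix.symplecticGroup (Fin m) F) {d : F}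
    (hd : d ≠ 0) (h : ∀ i j, d * (A : Matrix (Fin m ⊕ Fin m) (Fin m ⊕ Fin m) F) i j ∈ K0 φ) (i j : Fin m ⊕ Fin m) :
    (A : Matrix (Fin m ⊕ Fin m) (Fin m ⊕ Fin m) F) i j ∈ K0 φ := by
  set i0 : Fin m := ⟨0, hm⟩
  set u : Fin m ⊕ Fin m → F := Pi.single (Sum.inr i0) 1
  set v : Fin m ⊕ Fin m → F := Pi.single (Sum.inl i0) 1
  have hcol : ∀ k, ∀ i, (d • ((A : Matrix (Fin m ⊕ Fin m) (Fin m ⊕ Fin m) F) *ᵥ Pi.single k 1)) i ∈ K0 φ := by
    intro k i
    rw [mulVec_single_one, Pi.smul_apply, smul_eq_mul]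
    exact h i k
  have h1 := form_mem (hcol (Sum.inr i0)) (hcol (Sum.inl i0))
  rw [sympForm_smul_left, sympForm_smul_right, sympForm_mulVec A.2] at h1
  have h2 : sympForm m F (Pi.single (Sum.inr i0) 1) (Pi.single (Sum.inl i0) 1) = 1 := by
    rw [sympForm_eq_sum, Finset.sum_eq_single i0]
    · simp
    · intro b _ hb
      simp [hb]
    · intro h
      exact absurd (Finset.mem_univ _) h
  rw [h2, mul_one] at h1
  have h3 : φ d * φ d = d * d := by
    have := mem_K0.1 h1
    rwa [map_mul] at this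
  have h4 : φ d = d := by
    rcases mul_self_eq_mul_self_iff.1 h3 with h4 | h4
    · exact h4
    · have h5 : ∀ n : ℕ, (φ ^ n) d = (-1) ^ n * d := by
        intro n
        induction n with
        | zero => rw [pow_zero, pow_zero, one_mul]; rfl
        | succ n ih =>
          rw [pow_succ', RingAut.mul_apply, ih, map_mul, map_pow, map_neg, map_one, h4, pow_succ]
          ring
      have h6 := h5 p
      rw [hφ, hp.neg_one_pow] at h6
      have h7 : d = -1 * d := h6
      rw [h4]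
      linear_combination (-1 : F) * h7
  have h5 : (A : Matrix (Fin m ⊕ Fin m) (Fin m ⊕ Fin m) F) i j =
      d⁻¹ * (d * (A : Matrix (Fin m ⊕ Fin m) (Fin m ⊕ Fin m) F) i j) := by
    rw [← mul_assoc, inv_mul_cancel₀ hd, one_mul]
  rw [h5]
  exact (K0 φ).mul_mem ((K0 φ).inv_mem (mem_K0.2 h4)) (h i j)

/-- **overgroups of `Sp_2m(q₀)`** -/
theorem overg [Fintype F] (hm : 2 ≤ m) {φ : F ≃+* F} {p : ℕ} (hp : p.Prime) (hp2 : p ≠ 2) (ho : orderOf φ = p)
    {M : Subgroup (Matrix.symplecticGroup (Fin m) F)} (hM : (SpHerm.emb (K0 φ) F m).range ≤ M) :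
    M = ⊤ ∨ M ≤ (SpHerm.emb (K0 φ) F m).range := by
  have hodd : Odd p := hp.odd_of_ne_two hp2
  have hφ : φ ^ p = 1 := by rw [← ho]; exact pow_orderOf_eq_one φ
  have hcard : Fintype.card F = Nat.card (K0 φ) ^ p := CpAutU.Fld.card_fixf ho
  have hmax := (sub_max hm (K0 φ) hp hcard).2 (M.map (H875.toGL m F)) ?_ ?_
  · have hinj : Function.Injective (H875.toGL m F) := by
      intro a b hab
      apply Subtype.ext
      have := congrArg (fun z : GL (Fin m ⊕ Fin m) F => (z : Matrix (Fin m ⊕ Fin m) (Fin m ⊕ Fin m) F)) hab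
      exact this
    rcases hmax with h | h
    · right
      intro A hA
      have h1 : H875.toGL m F A ∈ Geo.subfieldSubgroup (K0 φ) 1 ⊓ spGL m F := by
        rw [← h]; exact ⟨A, hA, rfl⟩
      obtain ⟨d, hd, h2⟩ := H930.mem_subfieldSubgroup_iff.1 h1.1
      rw [inv_one, one_mul, mul_one] at h2
      rw [← fixed_eq_range, CpAut.SpLang.mem_fixed]
      exact fun i j => mem_K0.1 (entries hodd hφ (by omega) A hd h2 i j)
    · left
      rw [eq_top_iff]
      intro A _
      have h1 : H875.toGL m F A ∈ M.map (H875.toGL m F) := by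
        rw [h, ← H875.toGL_range]
        exact ⟨A, rfl⟩
      obtain ⟨B, hB, hBA⟩ := h1
      rwa [← hinj hBA]
  · rintro g ⟨hg, hg'⟩
    rw [← H875.toGL_range] at hg'
    obtain ⟨A, rfl⟩ := hg'
    refine ⟨A, hM ?_, rfl⟩
    obtain ⟨d, hd, h2⟩ := H930.mem_subfieldSubgroup_iff.1 hg
    rw [inv_one, one_mul, mul_one] at h2
    rw [← fixed_eq_range, CpAut.SpLang.mem_fixed]
    exact fun i j => mem_K0.1 (entries hodd hφ (by omega) A hd h2 i j)
  · rintro _ ⟨A, -, rfl⟩
    rw [← H875.toGL_range]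
    exact ⟨A, rfl⟩

end ovg

section dat

variable {F : Type} [Field F] [Fintype F] {m : ℕ}

/-- a matrix fixing all rational lines is a scalar -/
theorem scalar_of_lines {ι : Type} [Fintype ι] [DecidableEq ι] {K : Type*} [Field K] {K₀ : Subfield K} (A : Matrix ι ι K)
    (h : ∀ v : ι → K, (∀ i, v i ∈ K₀) → ∃ c : K, A *ᵥ v = c • v) : ∃ a : K, A = a • (1 : Matrix ι ι K) := by
  have hr1 : ∀ j i, (Pi.single j (1 : K) : ι → K) i ∈ K₀ := by
    intro j i
    by_cases hij : i = j
    · subst hij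
      rw [Pi.single_eq_same]
      exact K₀.one_mem
    · rw [Pi.single_eq_of_ne hij]
      exact K₀.zero_mem
  have hch : ∀ j, ∃ c : K, A *ᵥ Pi.single j 1 = c • Pi.single j 1 := fun j => h _ (hr1 j)
  choose c hc using hch
  have heq : ∀ j k, j ≠ k → c j = c k := by
    intro j k hjk
    obtain ⟨d, hd⟩ := h (Pi.single j 1 + Pi.single k 1) fun i => K₀.add_mem (hr1 j i) (hr1 k i)
    rw [mulVec_add, hc, hc, smul_add] at hd
    have h1 := congrFun hd j
    have h2 := congrFun hd k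
    simp only [Pi.add_apply, Pi.smul_apply, Pi.single_eq_same, Pi.single_eq_of_ne hjk, Pi.single_eq_of_ne hjk.symm,
      smul_eq_mul, mul_one, mul_zero, add_zero, zero_add] at h1 h2
    rw [h1, h2]
  by_cases hne : Nonempty ι
  · obtain ⟨j0⟩ := hne
    refine ⟨c j0, ?_⟩
    ext i j
    have h1 := congrFun (hc j) i
    rw [mulVec_single_one] at h1
    have h2 : A i j = c j * (Pi.single j (1 : K) : ι → K) i := h1
    rw [h2, Matrix.smul_apply, smul_eq_mul, Matrix.one_apply, Pi.single_apply]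
    have h3 : c j = c j0 := by
      by_cases hj : j = j0
      · rw [hj]
      · exact heq j j0 hj
    rw [h3]
  · refine ⟨1, ?_⟩
    ext i
    exact absurd ⟨i⟩ hne

/-- the centraliser of `PSp_2m(q₀)` -/
theorem cent (hm : 1 ≤ m) {r : ℕ} [hr : Fact r.Prime] [CharP F r] {φ : F ≃+* F} {s : PSp m F}
    (h : ∀ g : Matrix.symplecticGroup (Fin m) (K0 φ), s * pr m F (SpHerm.emb (K0 φ) F m g) * s⁻¹ =
      pr m F (SpHerm.emb (K0 φ) F m g)) : s = 1 := by
  obtain ⟨A, rfl⟩ := surj_pr s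
  have hcop : r.Coprime (Nat.card (pr m F).ker) := by
    rw [ker_pr, LieClassical.SympCenter.card_center hm]
    by_cases h2 : r = 2
    · subst h2
      have h3 : ¬ 2 ∣ Nat.gcd 2 (Fintype.card F - 1) := by
        intro h4
        have h5 := h4.trans (Nat.gcd_dvd_right _ _)
        obtain ⟨k, -, hk⟩ := FiniteField.card F 2
        have h6 : 2 ∣ Fintype.card F := by
          rw [hk]
          exact dvd_pow_self 2 k.ne_zero
        have h7 : 1 ≤ Fintype.card F := Fintype.card_pos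
        omega
      exact (Nat.Prime.coprime_iff_not_dvd Nat.prime_two).2 h3
    · exact Nat.Coprime.coprime_dvd_right (Nat.gcd_dvd_left _ _) ((Nat.coprime_primes hr.out Nat.prime_two).2 h2)
  have key : ∀ v : Fin m ⊕ Fin m → F, (∀ i, v i ∈ K0 φ) →
      ∃ c : F, (A : Matrix (Fin m ⊕ Fin m) (Fin m ⊕ Fin m) F) *ᵥ v = c • v := by
    intro v hv
    have hfrob : frobPerm m φ v = v := by
      funext i
      exact mem_K0.1 (hv i)
    have h1 : transv v (1 : F) ∈ (SpHerm.emb (K0 φ) F m).range := by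
      rw [← fixed_eq_range]
      show conjHom m F ⟨frobPerm m φ, frob_mem φ⟩ (transv v 1) = transv v 1
      rw [conjHom_transv _ one_ne_zero (isSemi_frobPerm φ), inv_one, mul_one, map_one]
      show transv (frobPerm m φ v) 1 = _
      rw [hfrob]
    obtain ⟨g, hg⟩ := h1
    have h2 := h g
    rw [hg, ← map_inv, ← map_mul, ← map_mul] at h2
    have h3 : ∀ w : Fin m ⊕ Fin m → F, transv w (1 : F) ^ r = 1 := by
      intro w
      refine uni_pow_char (W := Submodule.span F {w}) (transv_mem_uni ?_ (Submodule.mem_span_singleton_self w) 1) r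
      intro x hx y hy
      obtain ⟨a, rfl⟩ := Submodule.mem_span_singleton.1 hx
      obtain ⟨b, rfl⟩ := Submodule.mem_span_singleton.1 hy
      rw [sympForm_smul_left, sympForm_smul_right, sympForm_self, mul_zero, mul_zero]
    have h4 : A * transv v 1 * A⁻¹ = transv v 1 := by
      refine H458.Quot.eq_of_map_eq (pr m F) ker_pr.le hcop ?_ (h3 v) h2
      rw [conj_transv]
      exact h3 _
    rw [conj_transv] at h4
    by_cases hv0 : v = 0
    · exact ⟨0, by rw [hv0, mulVec_zero, smul_zero]⟩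
    obtain ⟨x, hx⟩ : ∃ x, sympForm m F x v ≠ 0 := by
      by_contra hcon
      push Not at hcon
      exact hv0 (eq_zero_of_forall_sympForm_left hcon)
    have h5 : ((transv ((A : Matrix (Fin m ⊕ Fin m) (Fin m ⊕ Fin m) F) *ᵥ v) (1 : F) : Matrix.symplecticGroup (Fin m) F) :
        Matrix (Fin m ⊕ Fin m) (Fin m ⊕ Fin m) F) *ᵥ x =
        ((transv v (1 : F) : Matrix.symplecticGroup (Fin m) F) : Matrix (Fin m ⊕ Fin m) (Fin m ⊕ Fin m) F) *ᵥ x := by
      rw [h4]
    rw [coe_transv, coe_transv, sympTransvection_mulVec, sympTransvection_mulVec, one_mul, one_mul] at h5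
    have h6 := add_left_cancel h5
    set u := (A : Matrix (Fin m ⊕ Fin m) (Fin m ⊕ Fin m) F) *ᵥ v with hu
    have h7 : sympForm m F x u ≠ 0 := by
      intro h0
      rw [h0, zero_smul] at h6
      rcases smul_eq_zero.1 h6.symm with h8 | h8
      · exact hx h8
      · exact hv0 h8
    refine ⟨(sympForm m F x u)⁻¹ * sympForm m F x v, ?_⟩
    rw [mul_smul, ← h6, smul_smul, inv_mul_cancel₀ h7, one_smul]
  obtain ⟨a, ha⟩ := scalar_of_lines (K₀ := K0 φ) _ key
  have h1 : A ∈ center (Matrix.symplecticGroup (Fin m) F) := (LieClassical.SympCenter.mem_center_iff m A).2 ⟨a, ha⟩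
  rw [← ker_pr] at h1
  exact MonoidHom.mem_ker.1 h1

/-- the data of the standard field automorphisms -/
theorem dat (hm : 2 ≤ m) {r p : ℕ} (hC : Cond r p) [CharP F r] {φ : F ≃+* F} (ho : orderOf φ = p)
    (h22 : m = 2 → 3 ≤ Nat.card (K0 φ)) (hgen : Gen p (PSp m (K0 φ))) :
    Dat p (MulAut.conj : PSp m F →* MulAut (PSp m F)).range (Psi m F ⟨frobPerm m φ, frob_mem φ⟩) := by
  have hr : Fact r.Prime := ⟨hC.r_prime⟩
  have hfin : Fintype (K0 φ) := Fintype.ofFinite _
  have hsimple : IsSimpleGroup (PSp m (K0 φ)) := S0270.result m hm (fun h => by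
    rw [← Nat.card_eq_fintype_card]; exact h22 h)
  refine Dat.of_sett (CpAut.Psp.sett (by omega) φ) (commutator_top Fix.not_comm_quot) hgen ?_ ?_
  · intro M hker hM
    rcases overg hm hC.p_prime hC.p_ne_two ho hM with h | h
    · exact Or.inl h
    · right
      intro g hg
      obtain ⟨g0, rfl⟩ := h hg
      rw [(CpAut.Psp.sett (by omega) φ).compat, (CpAut.Psp.sett (by omega) φ).fix]
  · rintro _ ⟨s, rfl⟩ hs
    rw [cent (by omega) (r := r) hs, map_one]

/-- linear automorphisms of odd order are inner -/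
theorem inner_of_lin {a : MulAut (PSp m F)} {p : ℕ} (hp : Odd p) (ha : a ^ p = 1) {g : semiSim m F} {c : F} (hc : c ≠ 0)
    (hs : IsSemi g.1 (RingEquiv.refl F) c) (hg : Psi m F g = a) : ∃ s : PSp m F, a = MulAut.conj s := by
  let z : semiSim m F := ⟨scal m F (Units.mk0 c hc)⁻¹, H458.SpAut.mem_scal _⟩
  have h1 : z * (g * g) ∈ Schreier.ClassPSp.isom m F := by
    have h2 := (isSemi_scal (m := m) (Units.mk0 c hc)⁻¹).mul (hs.mul hs)
    have h3 : ((((Units.mk0 c hc)⁻¹ : Fˣ) : F) * (((Units.mk0 c hc)⁻¹ : Fˣ) : F)) *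
        (RingEquiv.refl F) (c * (RingEquiv.refl F) c) = 1 := by
      rw [RingEquiv.refl_apply, RingEquiv.refl_apply, Units.val_inv_eq_inv_val, Units.val_mk0]
      field_simp
    rw [h3] at h2
    exact h2
  have h2 := Schreier.ClassPSp.Psi_isom h1
  rw [map_mul, map_mul, hg] at h2
  have h3 : Psi m F z = 1 := Psi_scal _ _
  rw [h3, one_mul, ← pow_two] at h2
  have h4 := Subgroup.pow_mem _ h2 ((p + 1) / 2)
  rw [H458.SpAut.pow_half hp ha] at h4
  obtain ⟨s, hs⟩ := h4
  exact ⟨s, hs.symm⟩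

/-- the relation between automorphisms and field parts -/
def rel (m : ℕ) (F : Type) [Field F] : Subgroup (MulAut (PSp m F) × (F ≃+* F)) where
  carrier := {x | ∃ (g : semiSim m F) (l : F), l ≠ 0 ∧ IsSemi g.1 x.2 l ∧ Psi m F g = x.1}
  one_mem' := ⟨1, 1, one_ne_zero, ⟨fun _ _ => rfl, fun _ _ => rfl, fun _ _ => by rw [one_mul]; rfl⟩, map_one _⟩
  mul_mem' := by
    rintro ⟨a, φ⟩ ⟨b, ψ⟩ ⟨g, l, hl, hg, hga⟩ ⟨h, k, hk, hh, hhb⟩
    refine ⟨g * h, l * φ k, mul_ne_zero hl (by simpa using hk), hg.mul hh, ?_⟩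
    rw [map_mul, hga, hhb]
    rfl
  inv_mem' := by
    rintro ⟨a, φ⟩ ⟨g, l, hl, hg, hga⟩
    refine ⟨g⁻¹, φ.symm l⁻¹, by simpa using hl, hg.inv hl, ?_⟩
    rw [map_inv, hga]
    rfl

/-- a nontrivial inner automorphism -/
theorem exists_inner (hm : 2 ≤ m) (h22 : m = 2 → 3 ≤ Fintype.card F) {p : ℕ} [hp : Fact p.Prime] (hp2 : p ≠ 2)
    {E : Subgroup (MulAut (PSp m F))} (hE : IsElementaryAbelian p E) (hc : p ^ 2 ≤ Nat.card E) :
    ∃ s : PSp m F, MulAut.conj s ∈ E ∧ s ≠ 1 := by
  have hodd : Odd p := hp.out.odd_of_ne_two hp2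
  have hcyc : IsCyclic (F ≃+* F) := LieRecognition.FieldSemilinear.isCyclic_ringAut F
  obtain ⟨x, hxE, hx1, g, l, hl, hg, hgx⟩ := exists_lin hE hc (rel m F) (fun e he => by
    obtain ⟨g, hg⟩ := H458.SpAut.mem_range_of_odd hm h22 hodd (hE.2 e he)
    obtain ⟨φ, c, hc, hs⟩ := id g.2
    exact ⟨φ, g, c, hc, hs, hg⟩)
  obtain ⟨s, rfl⟩ := inner_of_lin hodd (hE.2 x hxE) hl hg hgx
  refine ⟨s, hxE, ?_⟩
  rintro rfl
  exact hx1 (map_one _)

/-- there is no element of order `p ≥ 7` in `Sp_4(2)` -/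
theorem no_small {p : ℕ} (hp : p.Prime) (h7 : 7 ≤ p) {φ : F ≃+* F} (h2 : Nat.card (K0 φ) = 2) {s : PSp 2 F}
    (hs : Psi 2 F ⟨frobPerm 2 φ, frob_mem φ⟩ s = s) (hsp : s ^ p = 1) : s = 1 := by
  by_contra hne
  have hchar : CharP (K0 φ) 2 := by
    have hfin : Fintype (K0 φ) := Fintype.ofFinite _
    have h3 := Nat.cast_card_eq_zero (R := K0 φ)
    rw [← Nat.card_eq_fintype_card, h2] at h3
    exact CharTwo.of_one_ne_zero_of_two_eq_zero one_ne_zero (by exact_mod_cast h3)
  have hcharF : CharP F 2 := (RingHom.charP_iff (K0 φ).subtype (K0 φ).subtype.injective 2).1 hchar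
  have : Fact (Nat.Prime 2) := ⟨Nat.prime_two⟩
  have : Fact p.Prime := ⟨hp⟩
  obtain ⟨A, rfl⟩ := surj_pr s
  -- the centre is trivial
  have hker : ∀ B : Matrix.symplecticGroup (Fin 2) F, pr 2 F B = 1 → B = 1 := by
    have h3 : Nat.card (center (Matrix.symplecticGroup (Fin 2) F)) = 1 := by
      rw [LieClassical.SympCenter.card_center (by norm_num)]
      obtain ⟨k, -, hk⟩ := FiniteField.card F 2
      have h6 : 2 ∣ Fintype.card F := by
        rw [hk]
        exact dvd_pow_self 2 k.ne_zero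
      have h7 : 1 ≤ Fintype.card F := Fintype.card_pos
      rw [← Nat.coprime_iff_gcd_eq_one, Nat.Prime.coprime_iff_not_dvd Nat.prime_two]
      omega
    intro B hB
    have h4 : B ∈ center (Matrix.symplecticGroup (Fin 2) F) := by
      rw [← ker_pr]; exact MonoidHom.mem_ker.2 hB
    rw [Subgroup.eq_bot_of_card_eq _ h3, mem_bot] at h4
    exact h4
  have hinj : ∀ B C : Matrix.symplecticGroup (Fin 2) F, pr 2 F B = pr 2 F C → B = C := by
    intro B C h
    have h1 := hker (B * C⁻¹) (by rw [map_mul, map_inv, h, mul_inv_cancel])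
    exact mul_inv_eq_one.1 h1
  have h3 : conjHom 2 F ⟨frobPerm 2 φ, frob_mem φ⟩ A = A := hinj _ _ hs
  have h4 : A ∈ (SpHerm.emb (K0 φ) F 2).range := by
    rw [← fixed_eq_range]; exact h3
  obtain ⟨B, rfl⟩ := h4
  have h5 : B ^ p = 1 := by
    apply CpAut.SpLang.emb_injective φ
    rw [map_pow, map_one]
    apply hinj
    rw [map_pow, hsp, map_one]
  have h6 : B ≠ 1 := by
    rintro rfl
    exact hne (by rw [map_one, map_one])
  have h7' : p ∣ Nat.card (Matrix.symplecticGroup (Fin 2) (K0 φ)) := by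
    rw [← orderOf_eq_prime h5 h6]
    exact orderOf_dvd_natCard B
  have hfin : Fintype (K0 φ) := Fintype.ofFinite _
  have h2' : Fintype.card (K0 φ) = 2 := by rw [← Nat.card_eq_fintype_card]; exact h2
  rw [LieClassical.SympCount.card_symplecticGroup, h2'] at h7'
  have h8 : (2 : ℕ) ^ (2 ^ 2) * ∏ i ∈ Finset.range 2, (2 ^ (2 * (i + 1)) - 1) = 720 := by decide
  rw [h8] at h7'
  have h9 : p ∈ Nat.primeFactors 720 := Nat.mem_primeFactors.2 ⟨hp, h7', by norm_num⟩
  have h10 : Nat.primeFactors 720 = {2, 3, 5} := by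
    rw [show (720 : ℕ) = 2 ^ 4 * 3 ^ 2 * 5 by norm_num]
    rw [Nat.primeFactors_mul (by norm_num) (by norm_num), Nat.primeFactors_mul (by norm_num) (by norm_num),
      Nat.primeFactors_pow _ (by norm_num), Nat.primeFactors_pow _ (by norm_num), Nat.Prime.primeFactors Nat.prime_two,
      Nat.Prime.primeFactors Nat.prime_three, Nat.Prime.primeFactors Nat.prime_five]
    rfl
  rw [h10] at h9
  simp only [Finset.mem_insert, Finset.mem_singleton] at h9
  omega

end dat

/-- **The row `PSp_2m(q)` of S2187.** -/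
theorem psp_aux (N : ℕ) : ∀ {F : Type} [Field F] [Fintype F] {r p : ℕ} [CharP F r], Cond r p → ∀ {m : ℕ}, 2 ≤ m →
    (m = 2 → 3 ≤ Fintype.card F) → Fintype.card F = N → Gen p (PSp m F) := by
  induction N using Nat.strong_induction_on with
  | _ N ih =>
    intro F _ _ r p _ hC m hm h22 hN E hE hc
    have hp : Fact p.Prime := ⟨hC.p_prime⟩
    have hp2 := hC.p_ne_two
    have hodd : Odd p := hC.p_prime.odd_of_ne_two hp2
    by_cases hin : ∀ e ∈ E, ∃ s : PSp m F, e = MulAut.conj s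
    · exact inner_top hC hm h22 hE hc hin
    push Not at hin
    obtain ⟨ψ, hψ, hψ'⟩ := hin
    have hlin : ∀ e : MulAut (PSp m F), e ∈ (MulAut.conj : PSp m F →* MulAut (PSp m F)).range ↔ ∃ s, e = MulAut.conj s :=
      fun e => ⟨fun ⟨s, hs⟩ => ⟨s, hs.symm⟩, fun ⟨s, hs⟩ => ⟨s, hs.symm⟩⟩
    obtain ⟨s, hsE, hs1⟩ := exists_inner hm h22 hp2 hE hc
    have hnn : (MulAut.conj : PSp m F →* MulAut (PSp m F)).range.Normal := H240.GenTwF.innNormal
    have hcomm : ∀ a ∈ E, ∀ b ∈ E, a * b = b * a := fun a ha b hb =>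
      congrArg (fun z : ↥E => (z : MulAut (PSp m F))) (hE.1.1.1 ⟨a, ha⟩ ⟨b, hb⟩)
    have hsimple : IsSimpleGroup (PSp m F) := S0270.result m hm h22
    have hna : ¬ IsMulCommutative (PSp m F) := CpAut.Fix.not_comm_quot (H := Matrix.symplecticGroup (Fin m) F)
    have hinj := H240.GenTwF.conj_injective (H240.GenTwF.center_bot (K := PSp m F) hna)
    have hsp : s ^ p = 1 := hinj (by rw [map_pow, hE.2 _ hsE, map_one])
    refine field_top hE hc (Lin := (MulAut.conj : PSp m F →* MulAut (PSp m F)).range) ?_ hψ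
      (fun h => by obtain ⟨s, hs⟩ := (hlin ψ).1 h; exact hψ' s hs) hsE ⟨s, rfl⟩
      (fun h => hs1 (hinj (by rw [h, map_one])))
    intro τ hτ hτ'
    rcases H458.SpAut.inner_or_field hm h22 hodd (hE.2 τ hτ) with ⟨t, ht⟩ | ⟨g, φ, c, hc0, hg, hφ, hgτ⟩
    · exact absurd ((hlin τ).2 ⟨t, ht⟩) hτ'
    · obtain ⟨ho, h, hh⟩ := CpAut.Psp.exists_conj (by omega) hC.p_prime hc0 hg (by rw [hgτ]; exact hE.2 τ hτ) hφ
      rw [hgτ] at hh
      have hcard : Fintype.card F = Nat.card (K0 φ) ^ p := CpAutU.Fld.card_fixf ho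
      have hfin : Fintype (K0 φ) := Fintype.ofFinite _
      have hchar : CharP (K0 φ) r := (RingHom.charP_iff (K0 φ).subtype (K0 φ).subtype.injective r).2 inferInstance
      have hK2 : 2 ≤ Nat.card (K0 φ) := Finite.one_lt_card
      have hlt : Nat.card (K0 φ) < N := by
        rw [← hN, hcard]
        calc Nat.card (K0 φ) = Nat.card (K0 φ) ^ 1 := (pow_one _).symm
          _ < Nat.card (K0 φ) ^ p := Nat.pow_lt_pow_right (by omega) hC.p_prime.one_lt
      have hsmall : m = 2 → 3 ≤ Nat.card (K0 φ) := by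
        rintro rfl
        by_contra hcon
        have hK : Nat.card (K0 φ) = 2 := by omega
        have h7 : 7 ≤ p := by
          rcases hC.big with h | h
          · exact h
          · exfalso
            apply h
            have h3 := Nat.cast_card_eq_zero (R := K0 φ)
            rw [← Nat.card_eq_fintype_card, hK, CharP.cast_eq_zero_iff (K0 φ) r] at h3
            exact (Nat.prime_dvd_prime_iff_eq hC.r_prime Nat.prime_two).1 h3
        -- move `s`
        set σ := Psi 2 F ⟨frobPerm 2 φ, frob_mem φ⟩ with hσ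
        set f := Psi 2 F h with hf
        have h8 : σ (f⁻¹ s) = f⁻¹ s := by
          have h9 := hcomm τ hτ _ hsE
          have h10 : τ s = s := by
            apply hinj
            rw [← H240.GenTwF.conj_conj, h9, mul_inv_cancel_right]
          rw [hh] at h10
          have h11 : f (σ (f⁻¹ s)) = s := h10
          rw [← MulAut.inv_apply_self (PSp 2 F) f (σ (f⁻¹ s)), h11]
        have h12 := no_small hC.p_prime h7 hK h8 (by rw [← map_pow, hsp, map_one])
        apply hs1
        have h13 : f (f⁻¹ s) = f 1 := by rw [h12]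
        rwa [MulAut.apply_inv_self, map_one] at h13
      rw [hh]
      refine Dat.conj (dat hm hC ho hsmall ?_) _
      exact ih (Nat.card (K0 φ)) hlt hC hm (fun h => by rw [← Nat.card_eq_fintype_card]; exact hsmall h)
        (Nat.card_eq_fintype_card).symm

/-- **The row `PSp_2m(q)` of S2187.** -/
theorem psp {F : Type} [Field F] [Fintype F] {r p : ℕ} [CharP F r] (hC : Cond r p) {m : ℕ} (hm : 2 ≤ m)
    (h22 : m = 2 → 3 ≤ Fintype.card F) : Gen p (PSp m F) := psp_aux _ hC hm h22 rfl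

end Cfsg.Agent.H972.Gen.Sp
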