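import Cfsg.Agent.H972.Gen.SlOver
import Cfsg.Agent.H818.Gen.Rows
import Cfsg.Agent.CpAutU.Row
import Cfsg.Agent.LieRecognition.FieldSemilinear
import Cfsg.Agent.H458.Quot

/-!
# S2187, row `PSL_n(q)`: field automorphisms (helper972)

* `dat` : the data of `FieldAbs` for the standard field automorphisms of `PSL_n(q)`;
* `psl_of_inner` : the row `PSL_n(q)` from its part about inner-diagonal automorphisms.
-/

set_option autoImplicit false
set_option linter.unusedSectionVars false

namespace Cfsg.Agent.H972.Gen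

open Cfsg Subgroup Cfsg.Agent.H818.Gen

/-- conjugation by an element normalising `Lin` -/
theorem Dat.conj_of {G : Type*} [Group G] {p : ℕ} {Lin : Subgroup (MulAut G)} {σ : MulAut G} (h : Dat p Lin σ)
    {f : MulAut G} (hf : f ∈ Lin) : Dat p Lin (f * σ * f⁻¹) := by
  obtain ⟨L, h1, h2, h3, h4, h5⟩ := h
  have hff : ∀ g : G, f (f⁻¹ g) = g := fun g => MulAut.apply_inv_self G f g
  have hff' : ∀ g : G, f⁻¹ (f g) = g := fun g => MulAut.inv_apply_self G f g
  refine ⟨L.map f.toMonoidHom, h1.congr (L.equivMapOfInjective f.toMonoidHom f.injective), ?_, ?_, ?_, ?_⟩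
  · rintro x hx _ ⟨g, hg, rfl⟩
    refine ⟨(f⁻¹ * x * f) g, h2 _ ?_ g hg, ?_⟩
    · have h6 : f⁻¹ * (x * (f * σ * f⁻¹)) * f = f⁻¹ * ((f * σ * f⁻¹) * x) * f := by rw [hx]
      calc f⁻¹ * x * f * σ = f⁻¹ * (x * (f * σ * f⁻¹)) * f := by group
        _ = f⁻¹ * ((f * σ * f⁻¹) * x) * f := h6
        _ = σ * (f⁻¹ * x * f) := by group
    · show f (f⁻¹ (x (f g))) = x (f g)
      rw [hff]
  · rintro _ ⟨g, hg, rfl⟩
    show f (σ (f⁻¹ (f g))) = f g
    rw [hff', h3 g hg]
  · intro M hM
    have h6 : L ≤ M.comap f.toMonoidHom := by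
      rw [← map_le_iff_le_comap]
      exact hM
    rcases h4 _ h6 with h7 | h7
    · left
      rw [eq_top_iff]
      intro g _
      have h8 : f⁻¹ g ∈ M.comap f.toMonoidHom := by rw [h7]; exact mem_top _
      have h9 : f (f⁻¹ g) ∈ M := h8
      rwa [hff] at h9
    · right
      intro g hg
      have h8 : f⁻¹ g ∈ M.comap f.toMonoidHom := by
        show f (f⁻¹ g) ∈ M
        rwa [hff]
      show f (σ (f⁻¹ g)) = g
      rw [h7 _ h8, hff]
  · intro x hx hxL
    have h6 : f⁻¹ * x * f ∈ Lin := Lin.mul_mem (Lin.mul_mem (Lin.inv_mem hf) hx) hf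
    have h7 := h5 _ h6 fun g hg => by
      have h8 : x (f g) = f g := hxL _ ⟨g, hg, rfl⟩
      show f⁻¹ (x (f g)) = g
      rw [h8]
      exact hff' g
    calc x = f * (f⁻¹ * x * f) * f⁻¹ := by group
      _ = 1 := by rw [h7]; group

end Cfsg.Agent.H972.Gen

namespace Cfsg.Agent.H972.Gen.Sl

open Cfsg Matrix Subgroup Cfsg.Agent.H818.Gen
open Cfsg.Agent.ClassicalGeometry.AutPSL.Root Cfsg.Agent.ClassicalGeometry.AutPSL.Auto
open Cfsg.Agent.ClassicalGeometry.AutPSL.Main Cfsg.Agent.CpAut.Psl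
open Cfsg.Agent.H199.PslAut (Psi)

section dat

variable {F : Type} [Field F] [Fintype F] {n : ℕ}

/-- no nontrivial linear automorphism centralises `PSL_n(q₀)` -/
theorem cent {σ : F ≃+* F} {A : GL (Fin n) F}
    (h : ∀ g : Matrix.SpecialLinearGroup (Fin n) (fixf σ), lift (cj A) (pr (emb σ g)) = pr (emb σ g)) :
    lift (cj A) = 1 := by
  have h2 : (A : Matrix (Fin n) (Fin n) F) ∈ Set.range (scalar (Fin n)) := by
    apply mem_range_scalar_of_commute_single
    intro i j hij
    have h3 := h (Matrix.SpecialLinearGroup.transvection hij 1)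
    have h4 : emb σ (Matrix.SpecialLinearGroup.transvection hij (1 : fixf σ)) =
        Matrix.SpecialLinearGroup.transvection hij (1 : F) := by
      apply Subtype.ext
      ext k l
      rw [coe_emb]
      show (((1 + Matrix.single i j 1 : Matrix (Fin n) (Fin n) (fixf σ)) k l : fixf σ) : F) =
        (1 + Matrix.single i j 1 : Matrix (Fin n) (Fin n) F) k l
      simp only [Matrix.add_apply, one_apply, single_apply]
      split_ifs <;> simp
    rw [h4, lift_pr] at h3
    have := cj_transvection_eq h3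
    exact this.symm
  obtain ⟨r, hr⟩ := h2
  rw [cj_eq_one_of_scalar hr, map_one]

/-- the data of the standard field automorphisms -/
theorem dat (hn : 2 ≤ n) {r p : ℕ} (hC : Cond r p) [CharP F r] {σ : F ≃+* F} (ho : orderOf σ = p)
    (h4 : n = 2 → 4 ≤ Nat.card (fixf σ)) (hgen : Gen p (Matrix.ProjectiveSpecialLinearGroup (Fin n) (fixf σ))) :
    Dat p (Psi n F).range (lift (fld σ)) := by
  have hr : Fact r.Prime := ⟨hC.r_prime⟩
  have hfin : Fintype (fixf σ) := Fintype.ofFinite _
  have hsimple : IsSimpleGroup (Matrix.ProjectiveSpecialLinearGroup (Fin n) (fixf σ)) :=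
    CpAut.PslRow.isSimple (E := fixf σ) hn (fun h => by rw [← Nat.card_eq_fintype_card]; exact h4 h)
  refine Dat.of_sett (sett (Fin n) σ) (commutator_top CpAut.Fix.not_comm_quot) hgen ?_ ?_
  · intro M hker hM
    refine overg hn hC.p_prime hC.p_ne_two (fun _ h2 => ?_) h4 ho hker hM
    rcases hC.big with h7 | h7
    · omega
    · exfalso
      apply h7
      have h3 : ((2 : ℕ) : F) = 0 := by exact_mod_cast h2
      rw [CharP.cast_eq_zero_iff F r] at h3
      exact (Nat.prime_dvd_prime_iff_eq hC.r_prime Nat.prime_two).1 h3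
  · rintro _ ⟨A, rfl⟩ hs
    exact cent hs

/-- the relation between automorphisms and field parts -/
def rel (n : ℕ) (F : Type) [Field F] :
    Subgroup (MulAut (Matrix.ProjectiveSpecialLinearGroup (Fin n) F) × (F ≃+* F)) where
  carrier := {x | ∃ A : GL (Fin n) F, x.1 = lift (cj A * fld x.2)}
  one_mem' := ⟨1, by
    show (1 : MulAut (Matrix.ProjectiveSpecialLinearGroup (Fin n) F)) = lift (cj 1 * fld 1)
    rw [map_one, map_one, one_mul, map_one]⟩
  mul_mem' := by
    rintro ⟨a, σ⟩ ⟨b, τ⟩ ⟨A, hA⟩ ⟨B, hB⟩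
    have hA' : a = lift (cj A * fld σ) := hA
    have hB' : b = lift (cj B * fld τ) := hB
    refine ⟨A * fgl σ B, ?_⟩
    show a * b = lift (cj (A * fgl σ B) * fld (σ * τ))
    rw [← cjfld_mul, hA', hB']
    exact (map_mul lift _ _).symm
  inv_mem' := by
    rintro ⟨a, σ⟩ ⟨A, hA⟩
    have hA' : a = lift (cj A * fld σ) := hA
    refine ⟨(fgl σ⁻¹ A)⁻¹, ?_⟩
    show a⁻¹ = lift (cj (fgl σ⁻¹ A)⁻¹ * fld σ⁻¹)
    rw [hA', ← map_inv]
    congr 1
    rw [inv_eq_iff_mul_eq_one, cjfld_mul, mul_inv_cancel, map_inv]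
    have h1 : fgl σ (fgl σ⁻¹ A) = A := by
      apply Units.ext
      ext i j
      exact σ.apply_symm_apply _
    rw [h1, mul_inv_cancel, map_one, map_one, one_mul]

/-- linear automorphisms of odd order of `PSL_2` are inner -/
theorem inner_of_lin_two {a : GL (Fin 2) F} {p : ℕ} (hp : Odd p) (ha : Psi 2 F a ^ p = 1) :
    ∃ s : Matrix.SpecialLinearGroup (Fin 2) F, Psi 2 F a = MulAut.conj (pr s) := by
  obtain ⟨k, hk⟩ := hp
  -- `a² / det a` has determinant one
  have hdet : (a : Matrix (Fin 2) (Fin 2) F).det ≠ 0 := by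
    have h3 : IsUnit (a : Matrix (Fin 2) (Fin 2) F) := a.isUnit
    rw [isUnit_iff_isUnit_det] at h3
    exact h3.ne_zero
  set c : Fˣ := Units.mk0 _ hdet with hc
  set b : GL (Fin 2) F := (scg c)⁻¹ * a ^ 2 with hb
  have h1 : Psi 2 F b = Psi 2 F a ^ 2 := by
    have h2 : Psi 2 F (scg c) = 1 := by
      show lift (cj (scg c)) = 1
      rw [cj_scg, map_one]
    rw [hb, map_mul, map_inv, h2, inv_one, one_mul, map_pow]
  have hbdet : (b : Matrix (Fin 2) (Fin 2) F).det = 1 := by
    have h2 : (scg c : GL (Fin 2) F) * b = a ^ 2 := by rw [hb, mul_inv_cancel_left]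
    have h3 := congrArg (fun z : GL (Fin 2) F => (z : Matrix (Fin 2) (Fin 2) F).det) h2
    have h4 : ((scg c : GL (Fin 2) F) * b : Matrix (Fin 2) (Fin 2) F).det =
        (a ^ 2 : Matrix (Fin 2) (Fin 2) F).det := by
      have := h3
      simpa only [Units.val_mul, Units.val_pow_eq_pow_val] using this
    rw [det_mul, det_pow] at h4
    have h5 : ((scg c : GL (Fin 2) F) : Matrix (Fin 2) (Fin 2) F).det = (c : F) ^ 2 := by
      show (scalar (Fin 2) (c : F)).det = _
      rw [scalar_apply, det_diagonal, Finset.prod_const, Finset.card_univ, Fintype.card_fin]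
    rw [h5, hc, Units.val_mk0] at h4
    exact mul_left_cancel₀ (pow_ne_zero 2 hdet) (by rw [h4, mul_one])
  obtain ⟨s, hs⟩ : ∃ s : Matrix.SpecialLinearGroup (Fin 2) F, Matrix.SpecialLinearGroup.toGL s = b :=
    ⟨⟨_, hbdet⟩, Units.ext rfl⟩
  refine ⟨s ^ (k + 1), ?_⟩
  rw [map_pow, map_pow]
  have h6 : MulAut.conj (pr s) = Psi 2 F b := by
    rw [← hs]
    exact (H199.PslAut.Psi_coe s).symm
  rw [h6, h1, ← pow_mul, show 2 * (k + 1) = (2 * k + 1) + 1 by ring, ← hk, pow_succ, ha, one_mul]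

theorem center_sq {K : Type*} [Field K] {z : Matrix.SpecialLinearGroup (Fin 2) K}
    (hz : z ∈ center (Matrix.SpecialLinearGroup (Fin 2) K)) : z ^ 2 = 1 := by
  obtain ⟨r, hr, h1⟩ := Matrix.SpecialLinearGroup.mem_center_iff.1 hz
  rw [Fintype.card_fin] at hr
  apply Subtype.ext
  rw [Matrix.SpecialLinearGroup.coe_pow, ← h1, ← map_pow, hr, map_one]
  rfl

/-- no element of order `p ≥ 5` in `SL_2(3)` and `SL_2(2)` -/
theorem no_small {p : ℕ} (hp : p.Prime) (h5 : 5 ≤ p) {σ : F ≃+* F}
    (h4 : Nat.card (fixf σ) < 4) {s : Matrix.ProjectiveSpecialLinearGroup (Fin 2) F}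
    (hs : lift (fld σ) s = s) (hsp : s ^ p = 1) : s = 1 := by
  have hpf : Fact p.Prime := ⟨hp⟩
  have hodd : Odd p := hp.odd_of_ne_two (by omega)
  have hker : (pr (ι := Fin 2) (F := F)).ker ≤ center (Matrix.SpecialLinearGroup (Fin 2) F) := by
    rw [QuotientGroup.ker_mk']
  have hcop : p.Coprime (Nat.card (pr (ι := Fin 2) (F := F)).ker) := by
    rw [Nat.Prime.coprime_iff_not_dvd hp]
    intro hdvd
    obtain ⟨z, hz⟩ := exists_prime_orderOf_dvd_card' p hdvd
    have h1 : z ^ 2 = 1 := Subtype.ext (center_sq (hker z.2))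
    have h2 := orderOf_dvd_of_pow_eq_one h1
    rw [hz] at h2
    have := Nat.le_of_dvd (by norm_num) h2
    omega
  obtain ⟨A0, rfl⟩ := pr_surjective s
  obtain ⟨k, hk⟩ := hodd
  set A := A0 ^ (p + 1) with hA
  have hA0 : pr A = pr A0 := by rw [hA, map_pow, pow_succ, hsp, one_mul]
  rw [← hA0] at hs ⊢
  have hAp : A ^ p = 1 := by
    have h1 : A0 ^ p ∈ center (Matrix.SpecialLinearGroup (Fin 2) F) := by
      rw [← pr_eq_one_iff, map_pow, hsp]
    calc A ^ p = ((A0 ^ p) ^ 2) ^ (k + 1) := by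
          rw [hA, ← pow_mul, ← pow_mul, ← pow_mul]
          congr 1
          rw [show p + 1 = 2 * (k + 1) by omega]
          ring
      _ = 1 := by rw [center_sq h1, one_pow]
  rw [lift_pr] at hs
  have h1 : fld σ A = A := H458.Quot.eq_of_map_eq pr hker hcop (by rw [← map_pow, hAp, map_one]) hAp hs
  obtain ⟨B, hB⟩ := exists_emb h1
  have hBp : B ^ p = 1 := by
    apply (sett (Fin 2) σ).inj
    rw [map_pow, hB, hAp, map_one]
  have hfin : Fintype (fixf σ) := Fintype.ofFinite _
  have h2 : (pr B : Matrix.ProjectiveSpecialLinearGroup (Fin 2) (fixf σ)) = 1 := by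
    by_contra hne
    have h3 : orderOf (pr B : Matrix.ProjectiveSpecialLinearGroup (Fin 2) (fixf σ)) = p :=
      orderOf_eq_prime (by rw [← map_pow, hBp, map_one]) hne
    have h6 : p ∣ Nat.card (Matrix.ProjectiveSpecialLinearGroup (Fin 2) (fixf σ)) := by
      rw [← h3]
      exact orderOf_dvd_natCard _
    have h7 := h6.trans (Dvd.intro _ (ClassicalGeometry.PSL2Basic.card_PSL2_gcd (fixf σ)))
    rw [Nat.card_eq_fintype_card] at h4
    have h8 : 1 < Fintype.card (fixf σ) := Fintype.one_lt_card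
    obtain ⟨q, hq⟩ : ∃ q, q = Fintype.card (fixf σ) := ⟨_, rfl⟩
    rw [← hq] at h4 h7 h8
    have h9 : q * (q ^ 2 - 1) ∣ 24 := by
      have : q = 2 ∨ q = 3 := by omega
      rcases this with rfl | rfl <;> norm_num
    have h10 := h7.trans h9
    rw [show (24 : ℕ) = 2 ^ 3 * 3 by norm_num, hp.dvd_mul] at h10
    rcases h10 with h | h
    · have := (Nat.prime_dvd_prime_iff_eq hp Nat.prime_two).1 (hp.dvd_of_dvd_pow h)
      omega
    · have := (Nat.prime_dvd_prime_iff_eq hp Nat.prime_three).1 h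
      omega
  rw [← hB]
  have h3 : pr (emb σ B) = ClassicalGeometry.PSL2Basic.pslMap (n := Fin 2) (fixf σ).subtype (pr B) := rfl
  rw [h3, h2, map_one]

end dat

/-- the part of the row about inner-diagonal automorphisms -/
def Inner (r p : ℕ) : Prop := ∀ {F : Type} [Field F] [Fintype F] [CharP F r] {n : ℕ}, 2 ≤ n →
  (n = 2 → 4 ≤ Fintype.card F) → ∀ {E : Subgroup (MulAut (Matrix.ProjectiveSpecialLinearGroup (Fin n) F))},
  IsElementaryAbelian p E → p ^ 2 ≤ Nat.card E → (∀ α ∈ E, ∃ a : GL (Fin n) F, Psi n F a = α) → Gam p E = ⊤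

/-- **The row `PSL_n(q)` of S2187 from its inner-diagonal part.** -/
theorem psl_aux {r p : ℕ} (hC : Cond r p) (hI : Inner r p) (N : ℕ) : ∀ {F : Type} [Field F] [Fintype F] [CharP F r]
    {n : ℕ}, 2 ≤ n → (n = 2 → 4 ≤ Fintype.card F) → Fintype.card F = N →
    Gen p (Matrix.ProjectiveSpecialLinearGroup (Fin n) F) := by
  induction N using Nat.strong_induction_on with
  | _ N ih =>
    intro F _ _ _ n hn h4 hN E hE hc
    have hp : Fact p.Prime := ⟨hC.p_prime⟩
    have hp2 := hC.p_ne_two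
    have hodd : Odd p := hC.p_prime.odd_of_ne_two hp2
    have hnt : Nontrivial (Fin n) := Fin.nontrivial_iff_two_le.2 hn
    by_cases hin : ∀ e ∈ E, ∃ a : GL (Fin n) F, Psi n F a = e
    · exact hI hn h4 hE hc hin
    push Not at hin
    obtain ⟨ψ, hψ, hψ'⟩ := hin
    have hcyc : IsCyclic (F ≃+* F) := LieRecognition.FieldSemilinear.isCyclic_ringAut F
    have hrel : ∀ e ∈ E, ∃ φ : F ≃+* F, (e, φ) ∈ rel n F := by
      intro e he
      obtain ⟨A, σ, h⟩ := exists_of_odd hn hodd (hE.2 e he)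
      exact ⟨σ, A, h⟩
    obtain ⟨x, hxE, hx1, A, hA⟩ := exists_lin hE hc (rel n F) hrel
    have hA' : Psi n F A = x := by
      have h1 : x = lift (cj A * fld (1 : F ≃+* F)) := hA
      rw [h1, map_one, mul_one]
      rfl
    have hcomm : ∀ a ∈ E, ∀ b ∈ E, a * b = b * a := fun a ha b hb =>
      congrArg (fun z : ↥E => (z : MulAut (Matrix.ProjectiveSpecialLinearGroup (Fin n) F)))
        (hE.1.1.1 ⟨a, ha⟩ ⟨b, hb⟩)
    refine field_top hE hc (Lin := (Psi n F).range) ?_ hψ (fun ⟨a, ha⟩ => hψ' a ha) hxE ⟨A, hA'⟩ hx1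
    intro τ hτ hτ'
    obtain ⟨C, σ, h⟩ := exists_of_odd hn hodd (hE.2 τ hτ)
    have hσ1 : σ ≠ 1 := by
      rintro rfl
      apply hτ'
      refine ⟨C, ?_⟩
      rw [h, map_one, mul_one]
      rfl
    obtain ⟨ho, B, hB⟩ := exists_conj hC.p_prime (by rw [← h]; exact hE.2 τ hτ) hσ1
    have hcard : Fintype.card F = Nat.card (fixf σ) ^ p := CpAutU.Fld.card_fixf ho
    have hfin : Fintype (fixf σ) := Fintype.ofFinite _
    have hchar : CharP (fixf σ) r := (RingHom.charP_iff (fixf σ).subtype (fixf σ).subtype.injective r).2 inferInstance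
    have hK2 : 2 ≤ Nat.card (fixf σ) := Finite.one_lt_card
    have hlt : Nat.card (fixf σ) < N := by
      rw [← hN, hcard]
      calc Nat.card (fixf σ) = Nat.card (fixf σ) ^ 1 := (pow_one _).symm
        _ < Nat.card (fixf σ) ^ p := Nat.pow_lt_pow_right (by omega) hC.p_prime.one_lt
    have hτB : τ = lift (cj B) * lift (fld σ) * (lift (cj B))⁻¹ := by
      rw [h, hB]
      simp only [map_mul, map_inv]
    have hsmall : n = 2 → 4 ≤ Nat.card (fixf σ) := by
      rintro rfl
      by_contra hcon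
      -- `p ≥ 5`
      have h5 : 5 ≤ p := by
        rcases hC.big with h | h
        · omega
        · have h3 : Nat.card (fixf σ) ≠ 2 := by
            intro hK
            apply h
            have h3 := Nat.cast_card_eq_zero (R := fixf σ)
            rw [← Nat.card_eq_fintype_card, hK, CharP.cast_eq_zero_iff (fixf σ) r] at h3
            exact (Nat.prime_dvd_prime_iff_eq hC.r_prime Nat.prime_two).1 h3
          have hK : Nat.card (fixf σ) = 3 := by omega
          have hr3 : r = 3 := by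
            have h3 := Nat.cast_card_eq_zero (R := fixf σ)
            rw [← Nat.card_eq_fintype_card, hK, CharP.cast_eq_zero_iff (fixf σ) r] at h3
            exact (Nat.prime_dvd_prime_iff_eq hC.r_prime Nat.prime_three).1 h3
          have h6 := hC.p_ne_r
          have h7 := hC.three_le
          have h8 : p ≠ 4 := by
            intro h8
            have := hC.p_prime
            rw [h8] at this
            exact absurd this (by decide)
          omega
      obtain ⟨s, hs⟩ := inner_of_lin_two hodd (a := A) (by rw [hA']; exact hE.2 x hxE)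
      rw [hA'] at hs
      have hsimple : IsSimpleGroup (Matrix.ProjectiveSpecialLinearGroup (Fin 2) F) := CpAut.PslRow.isSimple (E := F) hn h4
      have hna : ¬ IsMulCommutative (Matrix.ProjectiveSpecialLinearGroup (Fin 2) F) :=
        CpAut.Fix.not_comm_quot (H := Matrix.SpecialLinearGroup (Fin 2) F)
      have hinj := H240.GenTwF.conj_injective (H240.GenTwF.center_bot
        (K := Matrix.ProjectiveSpecialLinearGroup (Fin 2) F) hna)
      have hsp : pr s ^ p = 1 := hinj (by rw [map_pow, ← hs, hE.2 _ hxE, map_one])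
      set f := lift (cj B) with hf
      have h8 : lift (fld σ) (f⁻¹ (pr s)) = f⁻¹ (pr s) := by
        have h9 := hcomm τ hτ _ hxE
        have h10 : τ (pr s) = pr s := by
          apply hinj
          rw [← H240.GenTwF.conj_conj, ← hs, h9, mul_inv_cancel_right]
        rw [hτB] at h10
        have h11 : f (lift (fld σ) (f⁻¹ (pr s))) = pr s := h10
        rw [← MulAut.inv_apply_self _ f (lift (fld σ) (f⁻¹ (pr s))), h11]
      have h12 := no_small hC.p_prime h5 (by omega) h8 (by rw [← map_pow, hsp, map_one])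
      apply hx1
      have h13 : f (f⁻¹ (pr s)) = f 1 := by rw [h12]
      rw [MulAut.apply_inv_self, map_one] at h13
      rw [hs, h13, map_one]
    rw [hτB]
    refine Dat.conj_of (dat hn hC ho hsmall ?_) ⟨B, rfl⟩
    exact ih (Nat.card (fixf σ)) hlt hn (fun h => by rw [← Nat.card_eq_fintype_card]; exact hsmall h)
      (Nat.card_eq_fintype_card).symm

/-- **The row `PSL_n(q)` of S2187 from its inner-diagonal part.** -/
theorem psl_of_inner {r p : ℕ} (hC : Cond r p) (hI : Inner r p) {F : Type} [Field F] [Fintype F] [CharP F r] {n : ℕ}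
    (hn : 2 ≤ n) (h4 : n = 2 → 4 ≤ Fintype.card F) : Gen p (Matrix.ProjectiveSpecialLinearGroup (Fin n) F) :=
  psl_aux hC hI _ hn h4 rfl

end Cfsg.Agent.H972.Gen.Sl
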