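import Cfsg.Agent.H972.Gen.SuOver
import Cfsg.Agent.H972.Gen.SlField
import Cfsg.Agent.LieClassical.SU32
import Cfsg.Agent.ClassicalGeometry.PSUAutMain
import Cfsg.Agent.S0283

/-!
# S2187, row `PSU_n(q)`: field automorphisms (helper972)

* `dat` : the data of `FieldAbs` for the standard field automorphisms of `PSU_n(q)`;
* `psu_of_inner` : the row `PSU_n(q)` from its part about inner-diagonal automorphisms.
-/

set_option autoImplicit false
set_option linter.unusedSectionVars false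

namespace Cfsg.Agent.H972.Gen.Su

open Cfsg Cfsg.Geo Matrix Subgroup Cfsg.Agent.CpAut.Psl Cfsg.Agent.CpAutU.Fld Cfsg.Agent.CpAutU.Fixed
open Cfsg.Agent.H818.Gen
open Cfsg.Agent.LieClassical.HermBasic Cfsg.Agent.LieClassical.HermSiegel
open Cfsg.Agent.ClassicalGeometry.PSUAutCount (gm semiConj toAut herm_gm act_semiConj gm_inj sc gm_sc_mul toAut_sc_mul
  gm_mul gm_one gm_mul_inv gm_inv_mul gm_mulVec_inv gm_inv_mulVec)
open Cfsg.Agent.ClassicalGeometry.UnitAutBasic (pr pr_surjective exists_scalar_of_mem_center mem_center_of_scalar)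
open Cfsg.Agent.Schreier.PSU (f₁ f₂ toAut_eq mapGU conj_field toAut_pr' gm_mapGU act_semiConj_one' f₁_eq_conj)
open Cfsg.Agent.CpAutU.Desc (toAut_mul toAut_one exists_conj)
open Cfsg.Agent.H930.GUSub (Setup)

section cent

variable {F : Type*} [Field F] {n : ℕ}

/-- a matrix fixing the lines spanned by `e_i + b e_j` is a scalar -/
theorem scalar_of_lines (hn : 3 ≤ n) {A : Matrix (Fin n) (Fin n) F} {b b' : F} (hb : b ≠ b') (hb0 : b ≠ 0)
    (h : ∀ i j : Fin n, i ≠ j → ∀ x, x = b ∨ x = b' → ∃ c : F, A *ᵥ (Pi.single i 1 + x • Pi.single j 1) =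
      c • (Pi.single i 1 + x • Pi.single j 1 : Fin n → F)) : ∃ a : F, A = a • (1 : Matrix (Fin n) (Fin n) F) := by
  have hco : ∀ (x : F) (i j k : Fin n), (A *ᵥ (Pi.single i 1 + x • Pi.single j 1)) k = A k i + x * A k j := by
    intro x i j k
    rw [mulVec_add, mulVec_smul, mulVec_single_one, mulVec_single_one]
    rfl
  have h1 : ∀ k j, k ≠ j → A k j = 0 := by
    intro k j hkj
    obtain ⟨i, hi⟩ : ∃ i : Fin n, i ≠ k ∧ i ≠ j := by
      by_contra hcon
      push Not at hcon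
      have h2 : (Finset.univ : Finset (Fin n)) ⊆ {k, j} := by
        intro i _
        rw [Finset.mem_insert, Finset.mem_singleton]
        by_cases hik : i = k
        · exact Or.inl hik
        · exact Or.inr (hcon i hik)
      have h3 := Finset.card_le_card h2
      have h4 := Finset.card_le_two (a := k) (b := j)
      rw [Finset.card_univ, Fintype.card_fin] at h3
      omega
    obtain ⟨c, hc⟩ := h i j hi.2 b (Or.inl rfl)
    obtain ⟨c', hc'⟩ := h i j hi.2 b' (Or.inr rfl)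
    have e1 := congrFun hc k
    have e2 := congrFun hc' k
    rw [hco, Pi.smul_apply, Pi.add_apply, Pi.smul_apply, Pi.single_eq_of_ne hi.1.symm, Pi.single_eq_of_ne hkj] at e1 e2
    simp only [smul_eq_mul, mul_zero, add_zero] at e1 e2
    have e3 : (b - b') * A k j = 0 := by linear_combination e1 - e2
    exact (mul_eq_zero.1 e3).resolve_left (sub_ne_zero.2 hb)
  have h2 : ∀ i j, i ≠ j → A i i = A j j := by
    intro i j hij
    obtain ⟨c, hc⟩ := h i j hij b (Or.inl rfl)
    have e1 := congrFun hc i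
    have e2 := congrFun hc j
    rw [hco, Pi.smul_apply, Pi.add_apply, Pi.smul_apply, h1 i j hij, Pi.single_eq_same, Pi.single_eq_of_ne hij] at e1
    rw [hco, Pi.smul_apply, Pi.add_apply, Pi.smul_apply, h1 j i hij.symm, Pi.single_eq_same,
      Pi.single_eq_of_ne hij.symm] at e2
    simp only [smul_eq_mul, mul_zero, add_zero, mul_one, zero_add] at e1 e2
    have e3 : b * (A j j - c) = 0 := by linear_combination e2
    rw [e1, sub_eq_zero.1 ((mul_eq_zero.1 e3).resolve_left hb0)]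
  refine ⟨A ⟨0, by omega⟩ ⟨0, by omega⟩, ?_⟩
  ext i j
  rw [Matrix.smul_apply, Matrix.one_apply, smul_eq_mul]
  by_cases hij : i = j
  · subst hij
    rw [if_pos rfl, mul_one]
    by_cases hi : i = ⟨0, by omega⟩
    · rw [hi]
    · exact h2 _ _ hi
  · rw [if_neg hij, mul_zero, h1 i j hij]

end cent

section dat

variable {F : Type} [Field F] [Fintype F] {q s n : ℕ} {ρ : F ≃+* F}

/-- a unitary matrix inducing a scalar induces the identity -/
theorem toAut_eq_one {A : GU n F q} {a : F} (h : gm A = a • (1 : Matrix (Fin n) (Fin n) F)) : toAut A 1 = 1 := by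
  ext x
  obtain ⟨g, rfl⟩ := pr_surjective x
  rw [toAut_pr', MulAut.one_apply]
  congr 1
  apply ext_act
  intro x
  rw [act_semiConj_one']
  have h1 : ∀ y : Fin n → F, gm A *ᵥ y = a • y := fun y => by rw [h, Matrix.smul_mulVec, one_mulVec]
  rw [h1, ← act_smul, ← h1, gm_mulVec_inv]

/-- no nontrivial linear automorphism centralises `PSU_n(q₀)` -/
theorem cent (hF : Fintype.card F = q ^ 2) (hn : 3 ≤ n) [Fintype (fixf ρ)] (hF₀ : Fintype.card (fixf ρ) = s ^ 2)
    (hpow : ∀ a ∈ fixf ρ, a ^ q = a ^ s) {A : GU n F q}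
    (h : ∀ g : SU n (fixf ρ) s, toAut A 1 (pr n F q (embSU hF hpow g)) = pr n F q (embSU hF hpow g)) :
    toAut A 1 = 1 := by
  have S : Setup (fixf ρ) q s := ⟨hF, hF₀, fun x => hpow _ x.2⟩
  obtain ⟨κ, hκ0, hκ⟩ := exists_trace_zero_ne hF₀
  have hκ' : (κ : F) ≠ 0 := by exact_mod_cast hκ0
  have key : ∀ u : Fin n → fixf ρ, u ≠ 0 → hermForm n (fixf ρ) s u u = 0 →
      ∃ c : F, gm A *ᵥ H873.Sub.cv (fixf ρ) u = c • H873.Sub.cv (fixf ρ) u := by
    intro u hu0 hu
    have hs : IsSiegel s u (0 : Fin n → fixf ρ) κ := ⟨hu, herm_zero_left _, by rw [herm_zero_left, add_zero]; exact hκ⟩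
    obtain ⟨T, hT⟩ : ∃ T, T = embSU hF hpow (siegel hF₀ u 0 κ hs) := ⟨_, rfl⟩
    have hTact : ∀ x, act T x = x + ((κ : F) * hermForm n F q x (H873.Sub.cv (fixf ρ) u)) • H873.Sub.cv (fixf ρ) u := by
      intro x
      rw [act_def, hT, mat_embSU]
      have h5 : (mat (siegel hF₀ u 0 κ hs)).map (fixf ρ).subtype =
          siegelMat q (H873.Sub.cv (fixf ρ) u) (H873.Sub.cv (fixf ρ) 0) (κ : F) := GUS.siegelMat_map S u 0 κ
      rw [h5, siegelMat_mulVec, H873.Sub.cv_zero, smul_zero, add_zero, herm_zero_right hF, sub_zero]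
    obtain ⟨v, hv⟩ : ∃ v, v = H873.Sub.cv (fixf ρ) u := ⟨_, rfl⟩
    rw [← hv] at hTact ⊢
    obtain ⟨w, hw⟩ : ∃ w, w = gm A *ᵥ v := ⟨_, rfl⟩
    rw [← hw]
    have hv0 : v ≠ 0 := by
      rw [hv]
      exact GUS.cv_ne_zero S hu0
    have h1 := h (siegel hF₀ u 0 κ hs)
    rw [← hT, toAut_pr'] at h1
    have h2 : T⁻¹ * semiConj A 1 T ∈ center (SU n F q) := by
      rw [← QuotientGroup.eq_one_iff]
      show pr n F q (T⁻¹ * semiConj A 1 T) = 1
      rw [map_mul, map_inv, h1, inv_mul_cancel]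
    obtain ⟨c, -, hc⟩ := exists_scalar_of_mem_center hF hn h2
    have h3 : ∀ x, act (semiConj A 1 T) x = c • act T x := by
      intro x
      have h4 := hc x
      rw [act_mul] at h4
      have h5 := congrArg (act T) h4
      rw [act_act_inv, act_smul] at h5
      exact h5
    have h4 : ∀ x, x + ((κ : F) * hermForm n F q x w) • w = c • (x + ((κ : F) * hermForm n F q x v) • v) := by
      intro x
      have h5 := h3 x
      rw [act_semiConj_one', hTact, hTact, mulVec_add, gm_mulVec_inv, mulVec_smul, ← hw] at h5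
      have h6 : hermForm n F q (gm A⁻¹ *ᵥ x) v = hermForm n F q x w := by
        rw [← herm_gm A, gm_mulVec_inv, ← hw]
      rwa [h6] at h5
    obtain ⟨x, hx0, hxw, hxv⟩ := H873.Sub.exists_ne_zero_dot_two (K := F) (by rw [Fintype.card_fin]; exact hn)
      (fun i => w i ^ q) (fun i => v i ^ q)
    have hxw' : hermForm n F q x w = 0 := hxw
    have hxv' : hermForm n F q x v = 0 := hxv
    have hc1 : c = 1 := by
      have h5 := h4 x
      rw [hxw', hxv', mul_zero, zero_smul, zero_smul, add_zero] at h5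
      have h6 : (1 - c) • x = 0 := by rw [sub_smul, one_smul, ← h5, sub_self]
      rcases smul_eq_zero.1 h6 with h7 | h7
      · exact (sub_eq_zero.1 h7).symm
      · exact absurd h7 hx0
    obtain ⟨y, hy⟩ := exists_herm_ne_zero hF hv0
    have h5 := h4 y
    rw [hc1, one_smul] at h5
    have h6 := add_left_cancel h5
    have h7 : (κ : F) * hermForm n F q y w ≠ 0 := by
      intro h0
      rw [h0, zero_smul] at h6
      rcases smul_eq_zero.1 h6.symm with h8 | h8
      · exact mul_ne_zero hκ' (fun h9 => hy (herm_eq_zero_swap hF h9)) h8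
      · exact hv0 h8
    refine ⟨((κ : F) * hermForm n F q y w)⁻¹ * ((κ : F) * hermForm n F q y v), ?_⟩
    rw [mul_smul, ← h6, smul_smul, inv_mul_cancel₀ h7, one_smul]
  obtain ⟨b, b', hbb, hb, hb'⟩ := GUS.exists_two_norm hF₀
  have hb0 : b ≠ 0 := by
    rintro rfl
    rw [zero_mul] at hb
    exact (neg_ne_zero.2 one_ne_zero) hb.symm
  obtain ⟨a, ha⟩ := scalar_of_lines hn (A := gm A) (b := (b : F)) (b' := (b' : F)) (fun h => hbb (Subtype.ext h))
    (by exact_mod_cast hb0) (fun i j hij x hx => by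
      have key2 : ∀ z : fixf ρ, z * z ^ s = -1 → ∃ c : F, gm A *ᵥ (Pi.single i 1 + (z : F) • Pi.single j 1) =
          c • (Pi.single i 1 + (z : F) • Pi.single j 1 : Fin n → F) := by
        intro z hz
        have h7 := key (Pi.single i 1 + z • Pi.single j 1) (by
          intro h0
          have := congrFun h0 i
          simp [hij] at this) (by
          simp only [herm_add_right hF₀, herm_smul_right, herm_single_right hF₀, one_pow]
          simp [hij, hij.symm]
          linear_combination hz)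
        rw [H873.Sub.cv_add, H873.Sub.cv_smul, H873.Sub.cv_single, H873.Sub.cv_single] at h7
        exact h7
      rcases hx with rfl | rfl
      · exact key2 b hb
      · exact key2 b' hb')
  exact toAut_eq_one ha

/-- the data of the standard field automorphisms -/
theorem dat (hF : Fintype.card F = q ^ 2) (hn : 3 ≤ n) {r p : ℕ} (hC : Cond r p) (ho : orderOf ρ = p)
    [Fintype (fixf ρ)] (hF₀ : Fintype.card (fixf ρ) = s ^ 2) (hpow : ∀ a ∈ fixf ρ, a ^ q = a ^ s)
    (h32 : ¬ (n = 3 ∧ s = 2)) (hgen : Gen p (PSU n (fixf ρ) s)) :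
    Dat p (f₁ : GU n F q →* MulAut (PSU n F q)).range (toAut 1 ρ) := by
  have hsimple : IsSimpleGroup (PSU n (fixf ρ) s) := S0283.result hF₀ n hn h32
  refine Dat.of_sett (sett hF hn hF₀ hpow) (commutator_top CpAut.Fix.not_comm_quot) hgen ?_ ?_
  · intro M _ hM
    exact overg hF hn hC.p_prime hC.p_ne_two ho hF₀ hpow hM
  · rintro _ ⟨A, rfl⟩ hs
    exact cent hF hn hF₀ hpow hs

/-- the relation between automorphisms and field parts -/
def rel (n : ℕ) (F : Type) [Field F] (q : ℕ) : Subgroup (MulAut (PSU n F q) × (F ≃+* F)) where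
  carrier := {x | ∃ A : GU n F q, x.1 = toAut A x.2}
  one_mem' := ⟨1, (toAut_one (F := F) (n := n) (q := q)).symm⟩
  mul_mem' := by
    rintro ⟨a, σ⟩ ⟨b, τ⟩ ⟨A, hA⟩ ⟨B, hB⟩
    have hA' : a = toAut A σ := hA
    have hB' : b = toAut B τ := hB
    refine ⟨A * mapGU σ B, ?_⟩
    show a * b = toAut (A * mapGU σ B) (σ * τ)
    rw [← toAut_mul, hA', hB']
  inv_mem' := by
    rintro ⟨a, σ⟩ ⟨A, hA⟩
    have hA' : a = toAut A σ := hA
    refine ⟨mapGU σ⁻¹ A⁻¹, ?_⟩
    show a⁻¹ = toAut (mapGU σ⁻¹ A⁻¹) σ⁻¹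
    rw [hA', inv_eq_iff_mul_eq_one, toAut_mul, mul_inv_cancel]
    have h1 : mapGU σ (mapGU σ⁻¹ A⁻¹) = A⁻¹ := by
      apply gm_inj
      rw [CpAutU.Desc.gm_mapGU', CpAutU.Desc.gm_mapGU']
      ext i j
      exact σ.apply_symm_apply _
    rw [h1, mul_inv_cancel, toAut_one]

/-- linear automorphisms of `PSU_3` of order prime to three are inner -/
theorem inner_of_lin_three (hF : Fintype.card F = q ^ 2) {A : GU 3 F q} {p : ℕ} (hp : p.Prime) (hp3 : p ≠ 3)
    (h : toAut A 1 ^ p = 1) : ∃ g : SU 3 F q, toAut A 1 = MulAut.conj (pr 3 F q g) := by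
  have hdet1 : (gm A).det ^ (q + 1) = 1 := ClassicalGeometry.GUBasic.det_pow hF (fun u v => herm_gm A u v)
  have hdet0 : (gm A).det ≠ 0 := by
    intro h0
    rw [h0, zero_pow (by omega)] at hdet1
    exact zero_ne_one hdet1
  have hci : ((gm A).det)⁻¹ * (((gm A).det)⁻¹) ^ q = 1 := by rw [← pow_succ', inv_pow, hdet1, inv_one]
  obtain ⟨B, hB⟩ : ∃ B : GU 3 F q, B = sc 3 ⟨((gm A).det)⁻¹, hci⟩ * A ^ 3 := ⟨_, rfl⟩
  have hgB : gm B = ((gm A).det)⁻¹ • (gm A) ^ 3 := by
    rw [hB, gm_sc_mul, pow_succ, pow_succ, pow_one, gm_mul, gm_mul, pow_succ, pow_succ, pow_one]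
  have hdB : (gm B).det = 1 := by
    rw [hgB, det_smul, Matrix.det_pow, Fintype.card_fin, ← mul_pow, inv_mul_cancel₀ hdet0, one_pow]
  obtain ⟨g, hg⟩ : ∃ g : SU 3 F q, gm B = mat g := ⟨mkSU (gm B) hdB (fun u v => herm_gm _ u v), rfl⟩
  have h1 : (f₁ A : MulAut (PSU 3 F q)) ^ 3 = MulAut.conj (pr 3 F q g) := by
    rw [← f₁_eq_conj B g hg, ← map_pow]
    show toAut (A ^ 3) 1 = toAut B 1
    rw [hB, toAut_sc_mul]
  have h2 : (f₁ A : MulAut (PSU 3 F q)) ^ p = 1 := h
  have h3 : Nat.Coprime 3 (orderOf (f₁ A : MulAut (PSU 3 F q))) :=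
    Nat.Coprime.coprime_dvd_right (orderOf_dvd_of_pow_eq_one h2)
      ((Nat.coprime_primes Nat.prime_three hp).2 (Ne.symm hp3))
  obtain ⟨m, hm⟩ := exists_pow_eq_self_of_coprime h3
  refine ⟨g ^ m, ?_⟩
  rw [map_pow, map_pow, ← h1, hm]
  rfl

theorem center_cube (hF : Fintype.card F = q ^ 2) {z : SU 3 F q} (hz : z ∈ center (SU 3 F q)) : z ^ 3 = 1 := by
  obtain ⟨c, -, hc⟩ := exists_scalar_of_mem_center hF le_rfl hz
  have h1 : mat z = c • (1 : Matrix (Fin 3) (Fin 3) F) := by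
    apply Matrix.ext_of_mulVec_single
    intro i
    rw [Matrix.smul_mulVec, one_mulVec]
    exact hc _
  have h2 : c ^ 3 = 1 := by
    have h3 : (mat z).det = 1 := Matrix.SpecialLinearGroup.det_coe _
    rw [h1, det_smul, Fintype.card_fin, det_one, mul_one] at h3
    exact h3
  apply ext_act
  intro x
  rw [pow_succ, pow_succ, pow_one, act_mul, act_mul, hc, hc, hc, smul_smul, smul_smul, act_one,
    show c * c * c = 1 by rw [← h2]; ring, one_smul]

/-- no element of order `p ≥ 5` in `SU_3(2)` -/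
theorem no_small (hF : Fintype.card F = q ^ 2) {p : ℕ} (hp : p.Prime) (h5 : 5 ≤ p) [Fintype (fixf ρ)]
    (hF₀ : Fintype.card (fixf ρ) = 2 ^ 2) (hpow : ∀ a ∈ fixf ρ, a ^ q = a ^ 2) {x : PSU 3 F q}
    (hx : toAut 1 ρ x = x) (hxp : x ^ p = 1) : x = 1 := by
  have hpf : Fact p.Prime := ⟨hp⟩
  have hker : (pr 3 F q).ker ≤ center (SU 3 F q) := fun g hg => (QuotientGroup.eq_one_iff g).1 hg
  have hcop : p.Coprime (Nat.card (pr 3 F q).ker) := by
    rw [Nat.Prime.coprime_iff_not_dvd hp]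
    intro hdvd
    obtain ⟨z, hz⟩ := exists_prime_orderOf_dvd_card' p hdvd
    have h1 : z ^ 3 = 1 := Subtype.ext (center_cube hF (hker z.2))
    have h2 := orderOf_dvd_of_pow_eq_one h1
    rw [hz] at h2
    have := Nat.le_of_dvd (by norm_num) h2
    omega
  obtain ⟨A0, rfl⟩ := pr_surjective x
  have h3 : Nat.Coprime 3 (orderOf (pr 3 F q A0)) :=
    Nat.Coprime.coprime_dvd_right (orderOf_dvd_of_pow_eq_one hxp)
      ((Nat.coprime_primes Nat.prime_three hp).2 (by omega))
  obtain ⟨m, hm⟩ := exists_pow_eq_self_of_coprime h3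
  obtain ⟨A, hA⟩ : ∃ A, A = (A0 ^ 3) ^ m := ⟨_, rfl⟩
  have hA0 : pr 3 F q A = pr 3 F q A0 := by rw [hA, map_pow, map_pow, hm]
  rw [← hA0] at hx ⊢
  have hAp : A ^ p = 1 := by
    have h1 : A0 ^ p ∈ center (SU 3 F q) := by
      apply hker
      rw [MonoidHom.mem_ker, map_pow, hxp]
    rw [hA, ← pow_mul, ← pow_mul, show 3 * (m * p) = p * 3 * m by ring, pow_mul, pow_mul, center_cube hF h1, one_pow]
  rw [toAut_pr'] at hx
  have h1 : semiConj 1 ρ A = A :=
    H458.Quot.eq_of_map_eq (pr 3 F q) hker hcop (by rw [← map_pow, hAp, map_one]) hAp hx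
  obtain ⟨B, hB⟩ := exists_embSU hF hpow h1
  have hBp : B ^ p = 1 := by
    apply embSU_injective hF hpow
    rw [map_pow, hB, hAp, map_one]
  have h2 : B = 1 := by
    by_contra hne
    have h4 : orderOf B = p := orderOf_eq_prime hBp hne
    have h6 : p ∣ Nat.card (SU 3 (fixf ρ) 2) := by
      rw [← h4]
      exact orderOf_dvd_natCard _
    rw [LieClassical.SU32.card_SU hF₀, show (216 : ℕ) = 2 ^ 3 * 3 ^ 3 by norm_num, hp.dvd_mul] at h6
    rcases h6 with h | h
    · have := (Nat.prime_dvd_prime_iff_eq hp Nat.prime_two).1 (hp.dvd_of_dvd_pow h)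
      omega
    · have := (Nat.prime_dvd_prime_iff_eq hp Nat.prime_three).1 (hp.dvd_of_dvd_pow h)
      omega
  rw [← hB, h2, map_one, map_one]

end dat

/-- the part of the row about inner-diagonal automorphisms -/
def Inner (r p : ℕ) : Prop := ∀ {F : Type} [Field F] [Fintype F] [CharP F r] {n q : ℕ}, Fintype.card F = q ^ 2 → 3 ≤ n →
  ¬ (n = 3 ∧ q = 2) → ∀ {E : Subgroup (MulAut (PSU n F q))}, IsElementaryAbelian p E → p ^ 2 ≤ Nat.card E →
  (∀ α ∈ E, ∃ a : GU n F q, f₁ a = α) → Gam p E = ⊤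

/-- **The row `PSU_n(q)` of S2187 from its inner-diagonal part.** -/
theorem psu_aux {r p : ℕ} (hC : Cond r p) (hI : Inner r p) (N : ℕ) : ∀ {F : Type} [Field F] [Fintype F] [CharP F r]
    {n q : ℕ}, Fintype.card F = q ^ 2 → 3 ≤ n → ¬ (n = 3 ∧ q = 2) → Fintype.card F = N → Gen p (PSU n F q) := by
  induction N using Nat.strong_induction_on with
  | _ N ih =>
    intro F _ _ _ n q hF hn h32 hN E hE hc
    have hp : Fact p.Prime := ⟨hC.p_prime⟩
    have hp2 := hC.p_ne_two
    have hodd : Odd p := hC.p_prime.odd_of_ne_two hp2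
    by_cases hin : ∀ e ∈ E, ∃ a : GU n F q, f₁ a = e
    · exact hI hF hn h32 hE hc hin
    push Not at hin
    obtain ⟨ψ, hψ, hψ'⟩ := hin
    have hcyc : IsCyclic (F ≃+* F) := LieRecognition.FieldSemilinear.isCyclic_ringAut F
    have hrel : ∀ e ∈ E, ∃ φ : F ≃+* F, (e, φ) ∈ rel n F q := by
      intro e he
      obtain ⟨A, σ, h⟩ := ClassicalGeometry.PSUAutMain.exists_toAut hF hn h32 e
      exact ⟨σ, A, h⟩
    obtain ⟨x, hxE, hx1, A, hA⟩ := exists_lin hE hc (rel n F q) hrel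
    have hA' : f₁ A = x := by
      have h1 : x = toAut A 1 := hA
      rw [h1]
      rfl
    have hcomm : ∀ a ∈ E, ∀ b ∈ E, a * b = b * a := fun a ha b hb =>
      congrArg (fun z : ↥E => (z : MulAut (PSU n F q))) (hE.1.1.1 ⟨a, ha⟩ ⟨b, hb⟩)
    refine field_top hE hc (Lin := (f₁ : GU n F q →* MulAut (PSU n F q)).range) ?_ hψ (fun ⟨a, ha⟩ => hψ' a ha) hxE
      ⟨A, hA'⟩ hx1
    intro τ hτ hτ'
    obtain ⟨C, σ, h⟩ := ClassicalGeometry.PSUAutMain.exists_toAut hF hn h32 τ
    have hσ1 : σ ≠ 1 := by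
      rintro rfl
      exact hτ' ⟨C, h.symm⟩
    obtain ⟨ho, B, hB⟩ := exists_conj hF hn hC.p_prime hp2 (by rw [← h]; exact hE.2 τ hτ) hσ1
    have hcard : Fintype.card F = Nat.card (fixf σ) ^ p := card_fixf ho
    obtain ⟨s, hs2, hs, hqs⟩ := exists_s' hF ho hodd
    have hfin : Fintype (fixf σ) := Fintype.ofFinite _
    have hF₀ : Fintype.card (fixf σ) = s ^ 2 := by rw [← Nat.card_eq_fintype_card, hs]
    have hpow : ∀ a ∈ fixf σ, a ^ q = a ^ s := fun a ha => pow_q hodd hs hqs ha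
    have hchar : CharP (fixf σ) r := (RingHom.charP_iff (fixf σ).subtype (fixf σ).subtype.injective r).2 inferInstance
    have hK2 : 2 ≤ Nat.card (fixf σ) := Finite.one_lt_card
    have hlt : Nat.card (fixf σ) < N := by
      rw [← hN, hcard]
      calc Nat.card (fixf σ) = Nat.card (fixf σ) ^ 1 := (pow_one _).symm
        _ < Nat.card (fixf σ) ^ p := Nat.pow_lt_pow_right (by omega) hC.p_prime.one_lt
    have hτB : τ = toAut B 1 * toAut 1 σ * (toAut B 1)⁻¹ := by rw [h, hB]
    have hsmall : ¬ (n = 3 ∧ s = 2) := by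
      rintro ⟨rfl, rfl⟩
      -- `p ≥ 7`
      have h7 : 7 ≤ p := by
        rcases hC.big with h | h
        · exact h
        · exfalso
          apply h
          have h3 := Nat.cast_card_eq_zero (R := fixf σ)
          rw [hF₀, CharP.cast_eq_zero_iff (fixf σ) r] at h3
          exact (Nat.prime_dvd_prime_iff_eq hC.r_prime Nat.prime_two).1 (hC.r_prime.dvd_of_dvd_pow h3)
      obtain ⟨g, hg⟩ := inner_of_lin_three hF (A := A) hC.p_prime (by omega) (by
        have := hE.2 x hxE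
        rw [← hA'] at this
        exact this)
      have hg' : x = MulAut.conj (pr 3 F q g) := by
        rw [← hA', ← hg]
        rfl
      have hsimple : IsSimpleGroup (PSU 3 F q) := S0283.result hF 3 hn h32
      have hna : ¬ IsMulCommutative (PSU 3 F q) := CpAut.Fix.not_comm_quot (H := SU 3 F q)
      have hinj := H240.GenTwF.conj_injective (H240.GenTwF.center_bot (K := PSU 3 F q) hna)
      have hsp : pr 3 F q g ^ p = 1 := hinj (by rw [map_pow, ← hg', hE.2 _ hxE, map_one])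
      set f : MulAut (PSU 3 F q) := toAut B 1 with hf
      have h8 : toAut 1 σ (f⁻¹ (pr 3 F q g)) = f⁻¹ (pr 3 F q g) := by
        have h9 := hcomm τ hτ _ hxE
        have h10 : τ (pr 3 F q g) = pr 3 F q g := by
          apply hinj
          rw [← H240.GenTwF.conj_conj, ← hg', h9, mul_inv_cancel_right]
        rw [hτB] at h10
        have h11 : f (toAut 1 σ (f⁻¹ (pr 3 F q g))) = pr 3 F q g := h10
        rw [← MulAut.inv_apply_self _ f (toAut 1 σ (f⁻¹ (pr 3 F q g))), h11]
      have h12 := no_small hF hC.p_prime (by omega) hF₀ hpow h8 (by rw [← map_pow, hsp, map_one])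
      apply hx1
      have h13 : f (f⁻¹ (pr 3 F q g)) = f 1 := by rw [h12]
      rw [MulAut.apply_inv_self, map_one] at h13
      rw [hg', h13, map_one]
    rw [hτB]
    refine Dat.conj_of (dat hF hn hC ho hF₀ hpow hsmall ?_) ⟨B, rfl⟩
    exact ih (Nat.card (fixf σ)) hlt hF₀ hn hsmall (Nat.card_eq_fintype_card).symm

/-- **The row `PSU_n(q)` of S2187 from its inner-diagonal part.** -/
theorem psu_of_inner {r p : ℕ} (hC : Cond r p) (hI : Inner r p) {F : Type} [Field F] [Fintype F] [CharP F r] {n q : ℕ}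
    (hF : Fintype.card F = q ^ 2) (hn : 3 ≤ n) (h32 : ¬ (n = 3 ∧ q = 2)) : Gen p (PSU n F q) :=
  psu_aux hC hI _ hF hn h32 rfl

end Cfsg.Agent.H972.Gen.Su
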