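import Cfsg.Agent.H240.GenTwF.Tools
import Cfsg.Agent.CpAut.Fix

/-!
# S2187: field automorphisms, abstract part (helper972)

* `Dat p Lin σ` : the automorphism `σ` of `G` centralises a subgroup `L` of `G`, invariant under `C_{Aut G}(σ)`, with
  `Gen p L`, such that the overgroups of `L` are `G` or centralised by `σ`, and no nontrivial automorphism in `Lin`
  centralises `L`;
* `field_top` : `E ≤ Aut G` elementary abelian with a nontrivial element in `Lin` and an element outside `Lin`, all elements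
  outside `Lin` having `Dat`: `Gam p E = ⊤`;
* `Dat.of_sett` : the construction from the setting of `CpAut.Fix`.
-/

set_option autoImplicit false
set_option linter.unusedSectionVars false

namespace Cfsg.Agent.H972.Gen

open Cfsg Subgroup Cfsg.Agent.H818.Gen Cfsg.Agent.H240.GenTwF Cfsg.Agent.CpAut.Fix

section dat

variable {G : Type*} [Group G]

/-- the data of a field automorphism -/
def Dat (p : ℕ) (Lin : Subgroup (MulAut G)) (σ : MulAut G) : Prop :=
  ∃ L : Subgroup G, Gen p L ∧ (∀ x : MulAut G, x * σ = σ * x → ∀ g ∈ L, x g ∈ L) ∧ (∀ g ∈ L, σ g = g) ∧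
    (∀ M : Subgroup G, L ≤ M → M = ⊤ ∨ ∀ g ∈ M, σ g = g) ∧ ∀ x ∈ Lin, (∀ g ∈ L, x g = g) → x = 1

theorem Dat.conj {p : ℕ} {Lin : Subgroup (MulAut G)} [hn : Lin.Normal] {σ : MulAut G} (h : Dat p Lin σ) (f : MulAut G) :
    Dat p Lin (f * σ * f⁻¹) := by
  obtain ⟨L, h1, h2, h3, h4, h5⟩ := h
  have hff : ∀ g : G, f (f⁻¹ g) = g := fun g => MulAut.apply_inv_self G f g
  have hff' : ∀ g : G, f⁻¹ (f g) = g := fun g => MulAut.inv_apply_self G f g
  refine ⟨L.map f.toMonoidHom, h1.congr (L.equivMapOfInjective f.toMonoidHom f.injective), ?_, ?_, ?_, ?_⟩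
  · rintro x hx _ ⟨g, hg, rfl⟩
    refine ⟨(f⁻¹ * x * f) g, h2 _ ?_ g hg, ?_⟩
    · have h6 : f⁻¹ * (x * (f * σ * f⁻¹)) * f = f⁻¹ * ((f * σ * f⁻¹) * x) * f := by rw [hx]
      calc f⁻¹ * x * f * σ = f⁻¹ * (x * (f * σ * f⁻¹)) * f := by group
        _ = f⁻¹ * ((f * σ * f⁻¹) * x) * f := h6
        _ = σ * (f⁻¹ * x * f) := by group
    · show f (f⁻¹ (x (f g))) = x (f g)
      rw [hff]
  · rintro _ ⟨g, hg, rfl⟩
    show f (σ (f⁻¹ (f g))) = f g
    rw [hff', h3 g hg]
  · intro M hM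
    have h6 : L ≤ M.comap f.toMonoidHom := by
      rw [← map_le_iff_le_comap]
      exact hM
    rcases h4 _ h6 with h7 | h7
    · left
      rw [eq_top_iff]
      intro g _
      have h8 : f⁻¹ g ∈ M.comap f.toMonoidHom := by rw [h7]; exact mem_top _
      have h9 : f (f⁻¹ g) ∈ M := h8
      rwa [hff] at h9
    · right
      intro g hg
      have h8 : f⁻¹ g ∈ M.comap f.toMonoidHom := by
        show f (f⁻¹ g) ∈ M
        rwa [hff]
      show f (σ (f⁻¹ g)) = g
      rw [h7 _ h8, hff]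
  · intro x hx hxL
    have h6 : f⁻¹ * x * f ∈ Lin := by
      have := hn.conj_mem x hx f⁻¹
      rwa [inv_inv] at this
    have h7 := h5 _ h6 fun g hg => by
      have h8 : x (f g) = f g := hxL _ ⟨g, hg, rfl⟩
      show f⁻¹ (x (f g)) = g
      rw [h8]
      exact hff' g
    calc x = f * (f⁻¹ * x * f) * f⁻¹ := by group
      _ = 1 := by rw [h7]; group

theorem Dat.mono {p : ℕ} {Lin Lin' : Subgroup (MulAut G)} {σ : MulAut G} (h : Dat p Lin σ) (hle : Lin' ≤ Lin) :
    Dat p Lin' σ := by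
  obtain ⟨L, h1, h2, h3, h4, h5⟩ := h
  exact ⟨L, h1, h2, h3, h4, fun x hx => h5 x (hle hx)⟩

variable [Finite G] {p : ℕ} [hp : Fact p.Prime]

/-- **Field automorphisms.** -/
theorem field_top {Lin : Subgroup (MulAut G)} {E : Subgroup (MulAut G)} (hE : IsElementaryAbelian p E)
    (hc : p ^ 2 ≤ Nat.card E) (h : ∀ ψ ∈ E, ψ ∉ Lin → Dat p Lin ψ) {ψ x : MulAut G} (hψ : ψ ∈ E) (hψ' : ψ ∉ Lin)
    (hx : x ∈ E) (hx' : x ∈ Lin) (hx1 : x ≠ 1) : Gam p E = ⊤ := by
  by_contra hne
  have hcomm : ∀ a ∈ E, ∀ b ∈ E, a * b = b * a := fun a ha b hb =>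
    congrArg (fun z : ↥E => (z : MulAut G)) (hE.1.1.1 ⟨a, ha⟩ ⟨b, hb⟩)
  have key : ∀ τ ∈ E, τ ∉ Lin → ∀ g ∈ Gam p E, τ g = g := by
    intro τ hτ hτ'
    obtain ⟨L, h1, h2, h3, h4, h5⟩ := h τ hτ hτ'
    have h6 : L ≤ Gam p E := le_Gam_of_gen hE hc (fun φ hφ => h2 φ (hcomm φ hφ τ hτ)) h1
    exact (h4 _ h6).resolve_left hne
  obtain ⟨L, h1, h2, h3, h4, h5⟩ := h ψ hψ hψ'
  have h6 : L ≤ Gam p E := le_Gam_of_gen hE hc (fun φ hφ => h2 φ (hcomm φ hφ ψ hψ)) h1
  refine hx1 (h5 x hx' fun g hg => ?_)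
  have h7 := key (x * ψ) (E.mul_mem hx hψ) (fun h => hψ' (by
    have := Lin.mul_mem (Lin.inv_mem hx') h
    rwa [inv_mul_cancel_left] at this)) g (h6 hg)
  have h8 := key ψ hψ hψ' g (h6 hg)
  have h9 : x (ψ g) = g := h7
  rwa [h8] at h9

end dat

section sett

variable {H G H₀ : Type*} [Group H] [Group G] [Group H₀] {π : H →* G} {γ : MulAut H} {α : MulAut G} {f : H₀ →* H}

/-- the image of `H₀` is invariant under the automorphisms commuting with `α` -/
theorem sett_inv (S : Sett π γ α f) (hperf : commutator (H₀ ⧸ center H₀) = ⊤) {x : MulAut G} (hx : x * α = α * x)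
    {g : G} (hg : g ∈ (π.comp f).range) : x g ∈ (π.comp f).range := by
  set N : Subgroup ↥(fixedSubgroup α) := (π.comp f).range.subgroupOf (fixedSubgroup α) with hN
  have hNperf : commutator ↥N = ⊤ := by
    let e : H₀ ⧸ center H₀ ≃* ↥N := S.equiv.trans (Subgroup.subgroupOfEquivOfLe S.le).symm
    have h1 : (commutator (H₀ ⧸ center H₀)).map e.toMonoidHom = commutator ↥N := by
      rw [commutator_def, commutator_def, map_commutator, ← MonoidHom.range_eq_map,
        MonoidHom.range_eq_top.2 e.surjective]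
    rw [← h1, hperf, ← MonoidHom.range_eq_map, MonoidHom.range_eq_top.2 e.surjective]
  have h1 : ⁅N, N⁆ = N := by
    have h3 := congrArg (Subgroup.map N.subtype) hNperf
    rw [commutator_def, map_commutator, ← MonoidHom.range_eq_map, range_subtype] at h3
    exact h3
  have h2 : N = derivedSeries ↥(fixedSubgroup α) 2 := le_antisymm (LThree.le_derivedSeries_of_perfect h1 2) S.derived
  -- the restriction of `x`
  have hxf : ∀ c : G, c ∈ fixedSubgroup α → x c ∈ fixedSubgroup α := by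
    intro c hc
    have hc' : α c = c := hc
    have h3 : (α * x) c = (x * α) c := by rw [hx]
    have h4 : α (x c) = x (α c) := h3
    show α (x c) = x c
    rw [h4, hc']
  let y : ↥(fixedSubgroup α) →* ↥(fixedSubgroup α) :=
    { toFun := fun c => ⟨x c, hxf c c.2⟩
      map_one' := Subtype.ext (map_one x)
      map_mul' := fun a b => Subtype.ext (map_mul x (a : G) (b : G)) }
  have h5 : (derivedSeries ↥(fixedSubgroup α) 2).map y ≤ derivedSeries ↥(fixedSubgroup α) 2 :=
    map_derivedSeries_le_derivedSeries y 2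
  have h6 : (⟨g, S.le hg⟩ : ↥(fixedSubgroup α)) ∈ N := mem_subgroupOf.2 hg
  rw [h2] at h6
  have h7 := h5 ⟨_, h6, rfl⟩
  rw [← h2] at h7
  exact mem_subgroupOf.1 h7

/-- the data from the setting of `CpAut.Fix` -/
theorem Dat.of_sett (S : Sett π γ α f) {p : ℕ} {Lin : Subgroup (MulAut G)}
    (hperf : commutator (H₀ ⧸ center H₀) = ⊤) (hgen : Gen p (H₀ ⧸ center H₀))
    (hover : ∀ M : Subgroup H, π.ker ≤ M → f.range ≤ M → M = ⊤ ∨ ∀ g ∈ M, α (π g) = π g)
    (hcent : ∀ x ∈ Lin, (∀ h, x (π (f h)) = π (f h)) → x = 1) : Dat p Lin α := by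
  refine ⟨(π.comp f).range, hgen.congr S.equiv, fun x hx g hg => sett_inv S hperf hx hg, ?_, ?_, ?_⟩
  · intro g hg
    exact S.le hg
  · intro M hM
    have hker : π.ker ≤ M.comap π := by
      intro k hk
      rw [mem_comap, MonoidHom.mem_ker.1 hk]
      exact M.one_mem
    have hran : f.range ≤ M.comap π := by
      rintro _ ⟨h, rfl⟩
      exact hM ⟨h, rfl⟩
    rcases hover (M.comap π) hker hran with h | h
    · left
      rw [eq_top_iff]
      intro g _
      obtain ⟨k, rfl⟩ := S.surj g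
      have h1 : k ∈ M.comap π := by rw [h]; exact mem_top _
      exact h1
    · right
      intro g hg
      obtain ⟨k, rfl⟩ := S.surj g
      exact h k hg
  · intro x hx hxL
    exact hcent x hx fun h => hxL _ ⟨h, rfl⟩

end sett

end Cfsg.Agent.H972.Gen
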