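import Cfsg.Agent.H972.Gen.FieldLin
import Cfsg.Agent.CpAut.Psl
import Cfsg.Agent.CpAutU.Fixed
import Cfsg.Agent.H873.SubfieldMain
import Cfsg.Agent.H895.SLT.RowFour
import Cfsg.Agent.H930.TTrans
import Cfsg.Agent.H948.PSLMax
import Cfsg.Agent.S0805
import Cfsg.Agent.H199.PslAut

/-!
# S2187, row `PSL_n(q)`: overgroups of `SL_n(q₀)` (helper972)

* `rat_or_top` : a subgroup of `GL_n(F)` of determinant one containing the rational transvections contains `SL_n(F)` or is
  rational up to scalars, `n ≥ 4`, or `n = 3` and `q` odd;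
* `overg3` : overgroups of `SL_n(q₀)`, `q = q₀ ^ p`, `p ≠ 2`, `n ≥ 3`, in `SL_n(q)`;
* `overg` : all `n ≥ 2`.
-/

set_option autoImplicit false
set_option linter.unusedSectionVars false

namespace Cfsg.Agent.H972.Gen.Sl

open Cfsg Matrix Subgroup
open Cfsg.Agent.ClassicalGeometry.AutPSL.Root Cfsg.Agent.ClassicalGeometry.AutPSL.Auto
open Cfsg.Agent.ClassicalGeometry.AutPSL.Main Cfsg.Agent.CpAut.Psl

section gl

open Cfsg.Agent.H873.Sub Cfsg.Agent.H873

variable {ι : Type} [Fintype ι] [DecidableEq ι] {F : Type*} [Field F] {F₀ : Subfield F}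

/-- overgroups of the rational transvections -/
theorem rat_or_top [Fintype F] (hn : 3 ≤ Fintype.card ι) (hn' : (2 : F) ≠ 0 ∨ 4 ≤ Fintype.card ι) {r : ℕ}
    (hr : r.Prime) (hcard : Fintype.card F = Nat.card F₀ ^ r) {M : Subgroup (GL ι F)} (hRat : HasRat F₀ M) :
    Cfsg.Geo.specialLinear ι F ≤ M ∨ ∀ g ∈ M, ∃ d : F, d ≠ 0 ∧ ∀ i j, d * (g : Matrix ι ι F) i j ∈ F₀ := by
  rcases top_or_rat hRat (by omega) hr hcard with h | hB
  · exact Or.inl h
  · right
    have hng : ∀ v ψ : ι → F, HasTv M v ψ → ¬ H873.Sub.Gen F₀ ψ ∨ ¬ H873.Sub.Gen F₀ v := by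
      intro v ψ h
      by_contra hc
      push Not at hc
      obtain ⟨hψ, hv⟩ := hc
      obtain ⟨p, hp⟩ := CharP.exists F
      have hpp : p.Prime := CharP.char_is_prime F p
      have : Fact p.Prime := ⟨hpp⟩
      by_cases hp2 : p = 2
      · subst hp2
        refine no_gen_two hRat hB ?_ h hψ hv
        rcases hn' with h2 | h4
        · exact absurd (by exact_mod_cast CharP.cast_eq_zero F 2) h2
        · exact h4
      · exact no_gen_odd p hp2 hRat hB (by omega) h hψ hv
    intro g hg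
    apply rat_of_conj g (by omega)
    intro k l hkl i j
    have hel : HasTv M (Pi.single k 1) (Pi.single l 1) := by
      have := hRat (Pi.single k 1) (Pi.single l 1) (by simp [hkl])
      rwa [cv_single, cv_single] at this
    have hc := hel.conj hg
    have hk0 : (g : Matrix ι ι F) *ᵥ Pi.single k 1 ≠ 0 := by
      intro h0
      have h1 : ((g⁻¹ : GL ι F) : Matrix ι ι F) *ᵥ ((g : Matrix ι ι F) *ᵥ Pi.single k 1) =
          (Pi.single k 1 : ι → F) := by
        rw [mulVec_mulVec, ← Units.val_mul, inv_mul_cancel, Units.val_one, one_mulVec]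
      rw [h0, mulVec_zero] at h1
      have h2 := congrFun h1 k
      simp at h2
    have hl0 : (Pi.single l 1 : ι → F) ᵥ* ((g⁻¹ : GL ι F) : Matrix ι ι F) ≠ 0 := by
      intro h0
      have h1 : (Pi.single l 1 : ι → F) ᵥ* ((g⁻¹ : GL ι F) : Matrix ι ι F) ᵥ*
          (g : Matrix ι ι F) = (Pi.single l 1 : ι → F) := by
        rw [vecMul_vecMul, ← Units.val_mul, inv_mul_cancel, Units.val_one, vecMul_one]
      rw [h0, zero_vecMul] at h1
      have h2 := congrFun h1 l
      simp at h2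
    obtain ⟨c, b, β, hc0, hb, hβ⟩ := rat_of_nongen hRat hB (by omega) hc hk0 hl0 (hng _ _ hc)
    have h1 := congrFun hb i
    have h2 := congrFun hβ j
    rw [mulVec_single_one] at h1
    rw [single_one_vecMul] at h2
    change (g : Matrix ι ι F) i k = _ at h1
    change ((g⁻¹ : GL ι F) : Matrix ι ι F) l j = _ at h2
    rw [h1, h2]
    simp only [Pi.smul_apply, smul_eq_mul, cv_apply]
    have : c * (b i : F) * (c⁻¹ * (β j : F)) = b i * β j := by
      field_simp
    rw [this]
    exact F₀.mul_mem (b i).2 (β j).2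

end gl

section sl

variable {F : Type*} [Field F] {n : ℕ}

/-- a matrix of determinant one, rational up to a scalar, is fixed in `PSL` -/
theorem fixed_of_rat {σ : F ≃+* F} {g : Matrix.SpecialLinearGroup (Fin n) F} {d : F} (hd : d ≠ 0)
    (h : ∀ i j, d * (g : Matrix (Fin n) (Fin n) F) i j ∈ fixf σ) :
    lift (fld σ) (pr g) = pr g := by
  rw [lift_pr]
  symm
  refine pr_eq_of_smul (c := d * (σ d)⁻¹) ?_
  ext i j
  rw [coe_fld_apply, Matrix.smul_apply, smul_eq_mul]
  have h1 : σ (d * (g : Matrix (Fin n) (Fin n) F) i j) = d * (g : Matrix (Fin n) (Fin n) F) i j := h i j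
  rw [map_mul] at h1
  have h2 : σ d ≠ 0 := by simpa using hd
  field_simp
  linear_combination h1

theorem toGL_mem (g : Matrix.SpecialLinearGroup (Fin n) F) :
    (Matrix.SpecialLinearGroup.toGL g : GL (Fin n) F) ∈ Geo.specialLinear (Fin n) F := by
  rw [H873.mem_specialLinear_iff]
  exact g.2

theorem exists_toGL {g : GL (Fin n) F} (hg : g ∈ Geo.specialLinear (Fin n) F) :
    ∃ s : Matrix.SpecialLinearGroup (Fin n) F, Matrix.SpecialLinearGroup.toGL s = g := by
  rw [H873.mem_specialLinear_iff] at hg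
  exact ⟨⟨g, hg⟩, Units.ext rfl⟩

/-- `σ(d)³ = d³` implies `σ(d) = d`, `σ` of prime order `p ≠ 2, 3` -/
theorem fixed_of_cube {σ : F ≃+* F} {p : ℕ} (hodd : Odd p) (h3 : p.Coprime 3) (hσ : σ ^ p = 1) {d : F} (hd : d ≠ 0)
    (h : σ d ^ 3 = d ^ 3) : σ d = d := by
  obtain ⟨ω, hω⟩ : ∃ ω : F, ω = σ d * d⁻¹ := ⟨_, rfl⟩
  have hωd : σ d = ω * d := by rw [hω]; field_simp
  have hω3 : ω ^ 3 = 1 := by
    rw [hω, mul_pow, h, inv_pow, mul_inv_cancel₀ (pow_ne_zero 3 hd)]
  have key : ∀ x : F, x ^ 3 = 1 → x ≠ 1 → x ^ 2 + x + 1 = 0 := by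
    intro x hx hx1
    have h1 : (x - 1) * (x ^ 2 + x + 1) = 0 := by linear_combination hx
    exact (mul_eq_zero.1 h1).resolve_left (sub_ne_zero.2 hx1)
  by_cases hω1 : ω = 1
  · rw [hωd, hω1, one_mul]
  exfalso
  have e1 := key ω hω3 hω1
  have hτ3 : (σ ω) ^ 3 = 1 := by rw [← map_pow, hω3, map_one]
  have hτ1 : σ ω ≠ 1 := fun h1 => hω1 (σ.injective (by rw [h1, map_one]))
  have e2 := key (σ ω) hτ3 hτ1
  have e3 : (σ ω - ω) * (σ ω + ω + 1) = 0 := by linear_combination e2 - e1
  rcases mul_eq_zero.1 e3 with e4 | e4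
  · have e5 : σ ω = ω := sub_eq_zero.1 e4
    have e6 : ∀ k : ℕ, (σ ^ k) d = ω ^ k * d := by
      intro k
      induction k with
      | zero => rw [pow_zero, pow_zero, one_mul]; rfl
      | succ k ih =>
        rw [pow_succ', RingAut.mul_apply, ih, map_mul, map_pow, e5, hωd, pow_succ]
        ring
    have e7 := e6 p
    rw [hσ] at e7
    have e8 : ω ^ p = 1 := by
      have e9 : d = ω ^ p * d := e7
      exact mul_right_cancel₀ hd (by rw [← e9, one_mul])
    apply hω1
    have e10 : orderOf ω ∣ Nat.gcd p 3 := Nat.dvd_gcd (orderOf_dvd_of_pow_eq_one e8) (orderOf_dvd_of_pow_eq_one hω3)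
    rw [Nat.Coprime.gcd_eq_one h3, Nat.dvd_one, orderOf_eq_one_iff] at e10
    exact e10
  · have e5 : σ ω = ω ^ 2 := by linear_combination e4 - e1
    have e6 : ∀ k : ℕ, (σ ^ (2 * k)) ω = ω := by
      intro k
      induction k with
      | zero => rfl
      | succ k ih =>
        rw [show 2 * (k + 1) = 1 + (1 + 2 * k) by ring, pow_add, pow_add, pow_one, RingAut.mul_apply,
          RingAut.mul_apply, ih, e5, map_pow, e5]
        calc (ω ^ 2) ^ 2 = ω ^ 3 * ω := by ring
          _ = ω := by rw [hω3, one_mul]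
    obtain ⟨k, hk⟩ := hodd
    have e7 : (σ ^ p) ω = ω ^ 2 := by
      rw [hk, add_comm, pow_add, pow_one, RingAut.mul_apply, e6, e5]
    rw [hσ] at e7
    have e8 : ω = ω ^ 2 := e7
    apply hω1
    have hω0 : ω ≠ 0 := by
      rintro h0
      rw [h0] at hω3
      norm_num at hω3
    have e9 : ω * (ω - 1) = 0 := by linear_combination -e8
    exact sub_eq_zero.1 ((mul_eq_zero.1 e9).resolve_left hω0)

/-- **overgroups of `SL_n(q₀)`, `n ≥ 3`** -/
theorem overg3 [Fintype F] (hn : 3 ≤ n) {σ : F ≃+* F} {p : ℕ} (hp : p.Prime) (hp2 : p ≠ 2)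
    (h3 : n = 3 → (2 : F) = 0 → p ≠ 3) (ho : orderOf σ = p)
    {M : Subgroup (Matrix.SpecialLinearGroup (Fin n) F)} (hM : (emb (ι := Fin n) σ).range ≤ M) :
    M = ⊤ ∨ ∀ g ∈ M, lift (fld σ) (pr g) = pr g := by
  have hcard : Fintype.card F = Nat.card (fixf σ) ^ p := CpAutU.Fld.card_fixf ho
  set M' : Subgroup (GL (Fin n) F) := M.map Matrix.SpecialLinearGroup.toGL with hM'
  have hle : M' ≤ Geo.specialLinear (Fin n) F := by
    rintro _ ⟨g, -, rfl⟩
    exact toGL_mem g
  have hinj : ∀ a b : Matrix.SpecialLinearGroup (Fin n) F, (Matrix.SpecialLinearGroup.toGL a : GL (Fin n) F) =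
      Matrix.SpecialLinearGroup.toGL b → a = b := by
    intro a b hab
    apply Subtype.ext
    exact congrArg (fun z : GL (Fin n) F => (z : Matrix (Fin n) (Fin n) F)) hab
  have htop : Geo.specialLinear (Fin n) F ≤ M' → M = ⊤ := by
    intro h
    rw [eq_top_iff]
    intro g _
    obtain ⟨g', hg', hgg⟩ := h (toGL_mem g)
    rwa [← hinj _ _ hgg]
  have hfix : (∀ g ∈ M', ∃ d : F, d ≠ 0 ∧ ∀ i j, d * (g : Matrix (Fin n) (Fin n) F) i j ∈ fixf σ) →
      ∀ g ∈ M, lift (fld σ) (pr g) = pr g := by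
    intro h g hg
    obtain ⟨d, hd, h1⟩ := h _ ⟨g, hg, rfl⟩
    exact fixed_of_rat hd h1
  -- rational matrices are in `M`
  have hmem : ∀ g : Matrix.SpecialLinearGroup (Fin n) F, (∀ i j, (g : Matrix (Fin n) (Fin n) F) i j ∈ fixf σ) →
      g ∈ M := by
    intro g hg
    obtain ⟨h, rfl⟩ := exists_emb (σ := σ) (g := g) (by
      apply Subtype.ext
      ext i j
      rw [coe_fld_apply]
      exact hg i j)
    exact hM ⟨h, rfl⟩
  by_cases hcase : (2 : F) ≠ 0 ∨ 4 ≤ n
  · have hRat : H873.Sub.HasRat (fixf σ) M' := by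
      intro a α h
      have h' : H873.Sub.cv (fixf σ) α ⬝ᵥ H873.Sub.cv (fixf σ) a = 0 := H873.Sub.cv_dot_eq_zero.2 h
      rw [H873.hasTv_iff]
      refine ⟨h', ?_⟩
      obtain ⟨s, hs⟩ := exists_toGL (H873.tv_mem_specialLinear _ _ h')
      rw [← hs]
      refine ⟨s, hmem s fun i j => ?_, rfl⟩
      have h1 := congrFun (congrFun (congrArg (fun z : GL (Fin n) F => (z : Matrix (Fin n) (Fin n) F)) hs) i) j
      have h2 : (s : Matrix (Fin n) (Fin n) F) i j =
          (1 + vecMulVec (H873.Sub.cv (fixf σ) a) (H873.Sub.cv (fixf σ) α) : Matrix (Fin n) (Fin n) F) i j := h1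
      rw [h2]
      simp only [Matrix.add_apply, one_apply, vecMulVec_apply, H873.Sub.cv_apply]
      refine (fixf σ).add_mem ?_ ((fixf σ).mul_mem (a i).2 (α j).2)
      split_ifs
      · exact (fixf σ).one_mem
      · exact (fixf σ).zero_mem
    rcases rat_or_top (by rw [Fintype.card_fin]; exact hn) (by rw [Fintype.card_fin]; exact hcase) hp hcard hRat with h | h
    · exact Or.inl (htop h)
    · exact Or.inr (hfix h)
  · push Not at hcase
    obtain ⟨h2, h4⟩ := hcase
    obtain rfl : n = 3 := by omega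
    have hp3 := h3 rfl h2
    have hodd : Odd p := hp.odd_of_ne_two hp2
    have hσ : σ ^ p = 1 := by rw [← ho]; exact pow_orderOf_eq_one σ
    -- the subfield group has determinant one only when rational
    have hD : ∀ g : Matrix.SpecialLinearGroup (Fin 3) F, Matrix.SpecialLinearGroup.toGL g ∈
        Geo.subfieldSubgroup (fixf σ) (1 : GL (Fin 3) F) → g ∈ M := by
      intro g hg
      obtain ⟨d, hd, h1⟩ := H930.mem_subfieldSubgroup_iff.1 hg
      rw [inv_one, one_mul, mul_one] at h1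
      have h1' : ∀ i j, d * (g : Matrix (Fin 3) (Fin 3) F) i j ∈ fixf σ := h1
      have h5 : σ d ^ 3 = d ^ 3 := by
        let A : Matrix (Fin 3) (Fin 3) (fixf σ) := fun i j => ⟨d * (g : Matrix (Fin 3) (Fin 3) F) i j, h1' i j⟩
        have h6 : A.map (fixf σ).subtype = d • (g : Matrix (Fin 3) (Fin 3) F) := rfl
        have h7 : ((A.det : fixf σ) : F) = d ^ 3 := by
          have h8 : (fixf σ).subtype A.det = d ^ 3 := by
            rw [RingHom.map_det, RingHom.mapMatrix_apply, h6, det_smul, Fintype.card_fin, g.2, mul_one]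
          exact h8
        have h8 : σ ((A.det : fixf σ) : F) = ((A.det : fixf σ) : F) := A.det.2
        rwa [h7, map_pow] at h8
      have h6 := fixed_of_cube hodd ((Nat.coprime_primes hp Nat.prime_three).2 hp3) hσ hd h5
      refine hmem g fun i j => ?_
      have h7 : (g : Matrix (Fin 3) (Fin 3) F) i j = d⁻¹ * (d * (g : Matrix (Fin 3) (Fin 3) F) i j) := by
        rw [← mul_assoc, inv_mul_cancel₀ hd, one_mul]
      rw [h7]
      exact (fixf σ).mul_mem ((fixf σ).inv_mem h6) (h1' i j)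
    have hmax := H895.SLT.row_four (F₀ := fixf σ) hp hcard 1
    rcases hmax.2 M' (by
      rintro g ⟨hg1, hg2⟩
      obtain ⟨s, rfl⟩ := exists_toGL hg2
      exact ⟨s, hD s hg1, rfl⟩) hle with h | h
    · right
      apply hfix
      intro g hg
      rw [h] at hg
      obtain ⟨d, hd, h1⟩ := H930.mem_subfieldSubgroup_iff.1 hg.1
      rw [inv_one, one_mul, mul_one] at h1
      exact ⟨d, hd, h1⟩
    · left
      exact htop h.ge

end sl

section two

open Cfsg.Agent.H948.PSLMax Cfsg.Agent.ClassicalGeometry.PSL2Basic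
open Cfsg.Agent.ClassicalGeometry.PSL2Solvable

/-- `PSL_2(q₀)` is maximal in `PSL_2(q₀ ^ r)`, `r` an odd prime, `q₀ ≥ 4` -/
theorem coatom_two {F K : Type*} [Field F] [Fintype F] [Field K] [Fintype K] (f : K →+* F) {r : ℕ}
    (hF : Fintype.card F = Fintype.card K ^ r) (h4 : 4 ≤ Fintype.card K) (hr : r.Prime) (hr2 : r ≠ 2) :
    IsCoatom (pslMap (n := Fin 2) f).range := by
  obtain ⟨p, hchar⟩ := CharP.exists F
  have hpf : Fact p.Prime := ⟨by
    obtain ⟨n, hp, -⟩ := FiniteField.card F p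
    exact hp⟩
  obtain ⟨H, hH⟩ : ∃ H, H = (pslMap (n := Fin 2) f).range := ⟨_, rfl⟩
  rw [← hH]
  have e : H ≃* Matrix.ProjectiveSpecialLinearGroup (Fin 2) K := by
    rw [hH]
    exact (MonoidHom.ofInjective (pslMap_injective f)).symm
  have hcH : Nat.card H = Nat.card (Matrix.ProjectiveSpecialLinearGroup (Fin 2) K) :=
    Nat.card_congr e.toEquiv
  have hns := not_isSolvable_psl K h4
  have hrodd : Odd r := hr.odd_of_ne_two hr2
  have h60 : 60 ≤ Nat.card H := by
    rw [hcH]
    rcases Nat.even_or_odd (Fintype.card K) with hq | hq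
    · rw [card_PSL2_even K hq]
      exact Nat.mul_le_mul h4 (Nat.sub_le_sub_right (Nat.pow_le_pow_left h4 2) 1)
    · have h5 : 5 ≤ Fintype.card K := by
        rw [Nat.odd_iff] at hq
        omega
      have hcK := card_PSL2_odd K hq
      have := Nat.mul_le_mul h5 (Nat.sub_le_sub_right (Nat.pow_le_pow_left h5 2) 1)
      omega
  refine isCoatom_of_not_solvable p H ?_ ?_ ?_ ?_
  · intro h
    have h1 := card_psl_mono (K₀ := K) (K := F) hr.two_le hF.symm
    rw [h, Subgroup.card_top] at hcH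
    have h2 := Nat.le_of_dvd (card_pgl_pos K) (card_psl_dvd_pgl K)
    omega
  · intro hs
    have : Group.IsSolvable H := hs
    exact hns (Group.isSolvable_of_surjective (f := e.toMonoidHom) e.surjective)
  · rintro M hM ⟨e'⟩
    exfalso
    have hcM : Nat.card M = 60 := by
      rw [Nat.card_congr e'.toEquiv, Nat.card_eq_fintype_card]
      decide +kernel
    exact hM.ne (Subgroup.eq_of_le_of_card_ge hM.le (by omega))
  · intro M hM K' _ _ m hm hK'
    have hdvd : Nat.card (Matrix.ProjectiveSpecialLinearGroup (Fin 2) K) ∣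
        Nat.card (Matrix.ProjGenLinGroup (Fin 2) K') := by
      rw [← hcH]
      refine (Subgroup.card_dvd_of_le hM.le).trans ?_
      rcases hK' with ⟨⟨e'⟩⟩ | ⟨⟨e'⟩⟩
      · rw [Nat.card_congr e'.toEquiv]
        exact card_psl_dvd_pgl K'
      · rw [Nat.card_congr e'.toEquiv]
    rcases card_eq_or_eq (F := F) (K₀ := K) (K := K') hr hF hm hdvd with h1 | h1
    · exfalso
      rcases hK' with ⟨⟨e'⟩⟩ | ⟨⟨e'⟩⟩
      · have hcM : Nat.card M = Nat.card H := by
          rw [Nat.card_congr e'.toEquiv, hcH, card_PSL2_div, card_PSL2_div, h1]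
        exact hM.ne (Subgroup.eq_of_le_of_card_ge hM.le hcM.le)
      · rcases Nat.even_or_odd (Fintype.card K) with hq | hq
        · have hcM : Nat.card M = Nat.card H := by
            rw [Nat.card_congr e'.toEquiv, hcH, card_PGL2, card_PSL2_even K hq, h1]
          exact hM.ne (Subgroup.eq_of_le_of_card_ge hM.le hcM.le)
        · have hFodd : Odd (Fintype.card F) := by
            rw [hF]
            exact hq.pow
          have h2 : Fintype.card K' ^ r = Fintype.card F := by rw [h1, hF]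
          have h3 := Cfsg.Agent.S0805.even_of_exists_pgl hFodd hr.one_lt.le h2 ⟨M, ⟨e'⟩⟩
          exact (Nat.not_even_iff_odd.mpr hrodd) h3
    · exact eq_top_of_card_eq M h1 hK'

/-- **overgroups of `SL_2(q₀)`** -/
theorem overg2 {F : Type*} [Field F] [Fintype F] {σ : F ≃+* F} {p : ℕ} (hp : p.Prime) (hp2 : p ≠ 2)
    (h4 : 4 ≤ Nat.card (fixf σ)) (ho : orderOf σ = p)
    {M : Subgroup (Matrix.SpecialLinearGroup (Fin 2) F)} (hker : (pr (ι := Fin 2) (F := F)).ker ≤ M)
    (hM : (emb (ι := Fin 2) σ).range ≤ M) :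
    M = ⊤ ∨ ∀ g ∈ M, lift (fld σ) (pr g) = pr g := by
  have hcard : Fintype.card F = Nat.card (fixf σ) ^ p := CpAutU.Fld.card_fixf ho
  have hfin : Fintype (fixf σ) := Fintype.ofFinite _
  rw [Nat.card_eq_fintype_card] at hcard h4
  have hco := coatom_two (fixf σ).subtype hcard h4 hp hp2
  have hle : (pslMap (n := Fin 2) (fixf σ).subtype).range ≤ M.map pr := by
    rintro _ ⟨x, rfl⟩
    obtain ⟨g, rfl⟩ := pr_surjective x
    exact ⟨emb σ g, hM ⟨g, rfl⟩, rfl⟩
  rcases hco.le_iff.1 hle with h | h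
  · left
    rw [eq_top_iff]
    intro g _
    have h1 : pr g ∈ M.map pr := by rw [h]; exact mem_top _
    obtain ⟨g', hg', hgg⟩ := h1
    have h2 : g'⁻¹ * g ∈ (pr (ι := Fin 2) (F := F)).ker := by
      rw [MonoidHom.mem_ker, map_mul, map_inv, hgg, inv_mul_cancel]
    have h3 := M.mul_mem hg' (hker h2)
    rwa [mul_inv_cancel_left] at h3
  · right
    intro g hg
    have h1 : pr g ∈ M.map pr := ⟨g, hg, rfl⟩
    rw [h] at h1
    obtain ⟨x, hx⟩ := h1
    obtain ⟨k, rfl⟩ := pr_surjective x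
    have h2 : pr (emb σ k) = pr g := hx
    rw [← h2, lift_pr]
    congr 1
    apply Subtype.ext
    ext i j
    rw [coe_fld_apply, coe_emb]
    exact ((k : Matrix (Fin 2) (Fin 2) ↥(fixf σ)) i j).2

end two

/-- **overgroups of `SL_n(q₀)` in `SL_n(q₀ ^ p)`** -/
theorem overg {F : Type*} [Field F] [Fintype F] {n : ℕ} (hn : 2 ≤ n) {σ : F ≃+* F} {p : ℕ} (hp : p.Prime)
    (hp2 : p ≠ 2) (h3 : n = 3 → (2 : F) = 0 → p ≠ 3) (h4 : n = 2 → 4 ≤ Nat.card (fixf σ)) (ho : orderOf σ = p)
    {M : Subgroup (Matrix.SpecialLinearGroup (Fin n) F)} (hker : (pr (ι := Fin n) (F := F)).ker ≤ M)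
    (hM : (emb (ι := Fin n) σ).range ≤ M) :
    M = ⊤ ∨ ∀ g ∈ M, lift (fld σ) (pr g) = pr g := by
  rcases hn.eq_or_lt with rfl | hn
  · exact overg2 hp hp2 (h4 rfl) ho hker hM
  · exact overg3 hn hp hp2 h3 ho hM

end Cfsg.Agent.H972.Gen.Sl
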