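import Cfsg.Agent.H972.GUS.Three
import Cfsg.Agent.CpAutU.Fixed

/-!
# S2187, row `PSU_n(q)`: overgroups of `SU_n(q₀)` (helper972)

* `overg` : `q = q₀ ^ p`, `p` an odd prime, `n ≥ 3`: a subgroup of `SU_n(q)` containing `SU_n(q₀)` is `SU_n(q)` or is
  centralised by the field automorphism modulo the centre.
-/

set_option autoImplicit false
set_option linter.unusedSectionVars false

namespace Cfsg.Agent.H972.Gen.Su

open Cfsg Cfsg.Geo Matrix Cfsg.Agent.CpAut.Psl Cfsg.Agent.CpAutU.Fld Cfsg.Agent.CpAutU.Fixed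
open Cfsg.Agent.LieClassical.HermBasic Cfsg.Agent.LieClassical.HermSiegel Cfsg.Agent.H930 Cfsg.Agent.H918
open Cfsg.Agent.ClassicalGeometry.PSUAutCount (gm semiConj toAut herm_gm act_semiConj gm_inj)
open Cfsg.Agent.ClassicalGeometry.UnitAutBasic (pr pr_surjective exists_scalar_of_mem_center mem_center_of_scalar)
open Cfsg.Agent.H930.GUSub (Setup)

variable {F : Type*} [Field F] [Fintype F] {q s n : ℕ} {ρ : F ≃+* F}

theorem pr_eq_of_smul {g h : SU n F q} {c : F} (hc : mat h = c • mat g) : pr n F q h = pr n F q g := by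
  have h1 : g⁻¹ * h ∈ Subgroup.center (SU n F q) := by
    apply mem_center_of_scalar (c := c)
    intro x
    rw [act_mul]
    have h2 : act h x = c • act g x := by rw [act_def, act_def, hc, Matrix.smul_mulVec]
    rw [h2, act_smul, act_inv_act]
  have h3 : pr n F q (g⁻¹ * h) = 1 := (QuotientGroup.eq_one_iff _).2 h1
  rw [map_mul, map_inv, inv_mul_eq_one] at h3
  exact h3.symm

/-- a matrix rational up to a scalar is fixed in `PSU` -/
theorem fixed_of_rat {g : SU n F q} {d : F} (hd : d ≠ 0) (h : ∀ i j, d * mat g i j ∈ fixf ρ) :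
    toAut 1 ρ (pr n F q g) = pr n F q g := by
  show pr n F q (semiConj 1 ρ g) = _
  refine pr_eq_of_smul (c := d * (ρ d)⁻¹) ?_
  rw [mat_semiConj]
  ext i j
  rw [Matrix.map_apply, Matrix.smul_apply, smul_eq_mul]
  have h1 : ρ (d * mat g i j) = d * mat g i j := h i j
  rw [map_mul] at h1
  have h2 : ρ d ≠ 0 := by simpa using hd
  field_simp
  linear_combination h1

/-- **Overgroups of `SU_n(q₀)`.** -/
theorem overg (hF : Fintype.card F = q ^ 2) (hn : 3 ≤ n) {p : ℕ} (hp : p.Prime) (hp2 : p ≠ 2) (ho : orderOf ρ = p)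
    [Fintype (fixf ρ)] (hF₀ : Fintype.card (fixf ρ) = s ^ 2) (hpow : ∀ a ∈ fixf ρ, a ^ q = a ^ s)
    {M : Subgroup (SU n F q)} (hM : (embSU (n := n) hF hpow).range ≤ M) :
    M = ⊤ ∨ ∀ g ∈ M, toAut 1 ρ (pr n F q g) = pr n F q g := by
  have hcard : Fintype.card F = Nat.card (fixf ρ) ^ p := card_fixf ho
  have hodd : Odd p := hp.odd_of_ne_two hp2
  have S : Setup (fixf ρ) q s := ⟨hF, hF₀, fun x => hpow _ x.2⟩
  set M' : Subgroup (GL (Fin n) F) := M.map (suHom n F q) with hM'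
  have hMU : ∀ g ∈ M', ∀ x y, hermForm n F q ((g : Matrix (Fin n) (Fin n) F) *ᵥ x)
      ((g : Matrix (Fin n) (Fin n) F) *ᵥ y) = hermForm n F q x y := by
    rintro _ ⟨g, -, rfl⟩ x y
    exact g.2 x y
  have hle : M' ≤ SUg n F q := by
    rintro _ ⟨g, -, rfl⟩
    exact suHom_mem g
  have htop : SUg n F q ≤ M' → M = ⊤ := by
    intro h
    rw [eq_top_iff]
    intro g _
    obtain ⟨g', hg', hgg⟩ := h (suHom_mem g)
    rwa [← suHom_injective hgg]
  have hfix : M' ≤ subfieldSubgroup (fixf ρ) (1 : GL (Fin n) F) → ∀ g ∈ M, toAut 1 ρ (pr n F q g) = pr n F q g := by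
    intro h g hg
    obtain ⟨d, hd, h1⟩ := H930.mem_subfieldSubgroup_iff.1 (h ⟨g, hg, rfl⟩)
    rw [inv_one, one_mul, mul_one] at h1
    exact fixed_of_rat hd h1
  have hR : ∀ (u w : Fin n → fixf ρ) (μ : fixf ρ), IsSiegel s u w μ →
      HasS q M' (H873.Sub.cv (fixf ρ) u) (H873.Sub.cv (fixf ρ) w) (μ : F) := by
    intro u w μ h
    have hs := H930.GUSub.isSiegel_cv S h
    apply hasS_of_mem hF hs
    refine ⟨siegel hF _ _ _ hs, hM ⟨siegel hF₀ u w μ h, ?_⟩, rfl⟩
    apply mat_injective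
    rw [mat_embSU]
    exact GUS.siegelMat_map S u w μ
  rcases (show n = 3 ∨ 4 ≤ n by omega) with rfl | h4
  · by_cases htp : SUg 3 F q ≤ M'
    · exact Or.inl (htop htp)
    · right
      apply hfix
      obtain ⟨N, hN, hMN⟩ := H905.exists_isMaximalIn_of_lt (lt_of_le_not_ge hle htp)
      refine hMN.trans (GUS.three_std hF hp hodd hcard S N hN (le_trans ?_ hMN))
      rintro _ ⟨x, hx, rfl⟩
      obtain ⟨h, rfl⟩ := exists_suHom hx
      exact ⟨embSU hF hpow h, hM ⟨h, rfl⟩, Units.ext rfl⟩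
  · rcases GUS.dichotomy S hR hMU h4 hp hcard with h | h
    · exact Or.inl (htop h)
    · exact Or.inr (hfix h)

end Cfsg.Agent.H972.Gen.Su
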